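import Cfsg.Agent.Lib.Blocks.Cyclo.Facts

/-!
# Bounds from the averaged contributions

The inequalities for `2`-blocks with a subsection of small rank, and Brauer's bound `k(B) ≤ p ^ d`
for a major subsection of rank at most two.
-/

set_option autoImplicit false

namespace CfsgLib.Blocks.SubForm

open Cfsg CfsgLib.Char CfsgLib.CharAction CfsgLib.CycloTrace
open scoped ComplexConjugate Classical

section Arith

variable {ι : Type*} (S : Finset ι) (h : ι → ℕ) (t : ι → ℤ) (W : ι → ι → ℝ) {q l : ℕ}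

/-- The weighted count for rank at most three. -/
theorem weighted_le (hl : l ≤ 3) (hsum : ∑ χ ∈ S, t χ ≤ (q : ℤ) * l)
    (hrow : ∀ χ ∈ S, ∑ ψ ∈ S, W χ ψ ≤ (q : ℝ) * t χ) (hsq : ∀ χ ∈ S, ((t χ : ℝ)) ^ 2 ≤ W χ χ)
    (hW : ∀ ψ ∈ S, h ψ = 0 → ∀ χ ∈ S, χ ≠ ψ → ((2 : ℝ) ^ h χ) ^ 2 ≤ W ψ χ)
    (h0 : ∀ χ ∈ S, h χ = 0 → 1 ≤ t χ ∧ Odd (t χ))
    (hp : ∀ χ ∈ S, 1 ≤ h χ → (2 : ℤ) ^ (h χ + 1) ≤ t χ) :
    3 * (S.filter fun χ => h χ = 0).card + 2 * ∑ χ ∈ S.filter (fun χ => 1 ≤ h χ), 2 ^ h χ ≤ 3 * q := by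
  let w : ι → ℕ := fun χ => if h χ = 0 then 3 else 2 * 2 ^ h χ
  have hw : 3 * (S.filter fun χ => h χ = 0).card +
      2 * ∑ χ ∈ S.filter (fun χ => 1 ≤ h χ), 2 ^ h χ = ∑ χ ∈ S, w χ := by
    rw [← Finset.sum_filter_add_sum_filter_not S (fun χ => h χ = 0) w, Finset.mul_sum]
    congr 1
    · rw [Finset.sum_congr rfl fun χ hχ => if_pos (Finset.mem_filter.1 hχ).2, Finset.sum_const,
        smul_eq_mul, mul_comm]
    · exact Finset.sum_congr (Finset.filter_congr fun χ _ => Nat.one_le_iff_ne_zero) fun χ hχ =>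
        (if_neg (Finset.mem_filter.1 hχ).2).symm
  rw [hw]
  by_cases hone : ∃ ψ ∈ S, h ψ = 0 ∧ t ψ = 1
  · obtain ⟨ψ, hψ, hψ0, hψ1⟩ := hone
    have hle : ∀ χ ∈ S, (w χ : ℝ) ≤ 3 * W ψ χ := by
      intro χ hχ
      by_cases hχψ : χ = ψ
      · subst hχψ
        have h3 := hsq χ hχ
        rw [hψ1] at h3
        simp only [w, if_pos hψ0]
        push_cast at h3 ⊢
        linarith
      · have h3 := hW ψ hψ hψ0 χ hχ hχψ
        have h4 : (1 : ℝ) ≤ 2 ^ h χ := one_le_pow₀ one_le_two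
        simp only [w]
        split_ifs with hh
        · rw [hh] at h3; push_cast at h3 ⊢; linarith
        · push_cast; nlinarith
    have h5 : ((∑ χ ∈ S, w χ : ℕ) : ℝ) ≤ ((3 * q : ℕ) : ℝ) := by
      push_cast
      calc ∑ χ ∈ S, (w χ : ℝ) ≤ ∑ χ ∈ S, 3 * W ψ χ := Finset.sum_le_sum hle
        _ = 3 * ∑ χ ∈ S, W ψ χ := (Finset.mul_sum _ _ _).symm
        _ ≤ 3 * ((q : ℝ) * t ψ) := mul_le_mul_of_nonneg_left (hrow ψ hψ) (by norm_num)
        _ = 3 * q := by rw [hψ1]; simp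
    exact_mod_cast h5
  push Not at hone
  have hle : ∀ χ ∈ S, (w χ : ℤ) ≤ t χ := by
    intro χ hχ
    simp only [w]
    split_ifs with hh
    · obtain ⟨h3, k, hk⟩ := h0 χ hχ hh
      have := hone χ hχ hh
      push_cast
      omega
    · have h3 := hp χ hχ (Nat.one_le_iff_ne_zero.2 hh)
      rw [pow_succ'] at h3
      push_cast
      exact h3
  have h6 : ((∑ χ ∈ S, w χ : ℕ) : ℤ) ≤ ((3 * q : ℕ) : ℤ) := by
    push_cast
    refine ((Finset.sum_le_sum hle).trans hsum).trans ?_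
    rw [mul_comm (3 : ℤ)]
    exact mul_le_mul_of_nonneg_left (by exact_mod_cast hl) (Nat.cast_nonneg q)
  exact_mod_cast h6

/-- The count of height zero members by the rank. -/
theorem count_sqrt (hsum : ∑ χ ∈ S, t χ ≤ (q : ℤ) * l)
    (hrow : ∀ χ ∈ S, ∑ ψ ∈ S, W χ ψ ≤ (q : ℝ) * t χ) (hsq : ∀ χ ∈ S, ((t χ : ℝ)) ^ 2 ≤ W χ χ)
    (hW : ∀ ψ ∈ S, ∀ χ ∈ S, χ ≠ ψ → (1 : ℝ) ≤ W ψ χ) (h0 : ∀ χ ∈ S, 1 ≤ t χ ∧ Odd (t χ)) :
    (Odd (Nat.sqrt l) → S.card ≤ Nat.sqrt l * q) ∧
      (¬ Odd (Nat.sqrt l) → (Nat.sqrt l + 1) * S.card ≤ l * q) := by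
  set s := Nat.sqrt l
  have hs1 : s * s ≤ l := Nat.sqrt_le l
  have hs2 : l < (s + 1) * (s + 1) := Nat.lt_succ_sqrt l
  have hsmall : ∀ χ ∈ S, (S.card : ℤ) ≤ (q : ℤ) * t χ := by
    intro χ hχ
    have h3 : ((S.card : ℤ) : ℝ) ≤ (((q : ℤ) * t χ : ℤ) : ℝ) := by
      push_cast
      refine le_trans ?_ (hrow χ hχ)
      rw [Finset.card_eq_sum_ones, Nat.cast_sum]
      refine Finset.sum_le_sum fun ψ hψ => ?_
      by_cases hne : ψ = χ
      · subst hne
        refine le_trans ?_ (hsq ψ hψ)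
        have : (1 : ℝ) ≤ (t ψ : ℝ) := by exact_mod_cast (h0 ψ hψ).1
        push_cast
        nlinarith
      · simpa using hW χ hχ ψ hψ hne
    exact_mod_cast h3
  have hbig : ∀ c : ℤ, (∀ χ ∈ S, c ≤ t χ) → c * (S.card : ℤ) ≤ (q : ℤ) * l := fun c hc =>
    le_trans (by rw [mul_comm, ← nsmul_eq_mul, ← Finset.sum_const]; exact Finset.sum_le_sum hc) hsum
  refine ⟨fun hs => ?_, fun hs => ?_⟩
  · by_cases hex : ∃ χ ∈ S, t χ ≤ s
    · obtain ⟨χ, hχ, h1⟩ := hex
      have h2 := (hsmall χ hχ).trans (mul_le_mul_of_nonneg_left h1 (Nat.cast_nonneg q))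
      rw [mul_comm s]
      exact_mod_cast h2
    push Not at hex
    have h3 := hbig ((s : ℤ) + 2) fun χ hχ => by
      obtain ⟨h1, k, hk⟩ := h0 χ hχ
      obtain ⟨j, hj⟩ := hs
      have := hex χ hχ
      omega
    have h4 : (s + 2) * S.card ≤ q * l := by exact_mod_cast h3
    have h5 : q * l ≤ q * (s * s + 2 * s) := Nat.mul_le_mul_left q (by nlinarith)
    have h6 : (s + 2) * S.card ≤ (s + 2) * (s * q) := by nlinarith
    exact Nat.le_of_mul_le_mul_left h6 (Nat.succ_pos _)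
  · by_cases hex : ∃ χ ∈ S, t χ ≤ s
    · obtain ⟨χ, hχ, h1⟩ := hex
      obtain ⟨-, k, hk⟩ := h0 χ hχ
      obtain ⟨j, hj⟩ := Nat.not_odd_iff_even.1 hs
      have h1' : t χ ≤ (s : ℤ) - 1 := by omega
      have h2 := (hsmall χ hχ).trans (mul_le_mul_of_nonneg_left h1' (Nat.cast_nonneg q))
      have h3 : (((s + 1) * S.card : ℕ) : ℤ) ≤ ((l * q : ℕ) : ℤ) := by
        push_cast
        have h4 : ((s : ℤ)) * s ≤ l := by exact_mod_cast hs1
        nlinarith
      exact_mod_cast h3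
    push Not at hex
    have h3 := hbig ((s : ℤ) + 1) fun χ hχ => by have := hex χ hχ; omega
    rw [mul_comm l]
    exact_mod_cast h3

end Arith

variable {G : Type*} [Group G] [Fintype G] {p : ℕ} [Fact p.Prime]

omit [Fintype G] [Fact p.Prime] in
theorem exists_root (hp : p.Prime) {y : G} (hy : ∃ k : ℕ, orderOf y = p ^ k) :
    ∃ (n : ℕ) (ζ : ℂ), IsPrimitiveRoot ζ (p ^ (n + 1)) ∧ orderOf y ∣ p ^ (n + 1) := by
  obtain ⟨k, hk⟩ := hy
  exact ⟨k, _, Complex.isPrimitiveRoot_exp _ (pow_ne_zero _ hp.ne_zero),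
    hk ▸ pow_dvd_pow p (Nat.le_succ k)⟩

/-- A central element of a defect group gives a major subsection. -/
theorem major_data {M : Ideal AlgInt} {B : Set (IrrCharacter G)} {z : G} {D : Subgroup G}
    (hM' : IsPModular p M) (hB : IsPBlock M B)
    (hD : IsDefectGroup p M B D) (hzD : z ∈ D) (hzc : ∀ d ∈ D, d * z = z * d)
    {b : Set (IrrCharacter (Subgroup.centralizer ({z} : Set G)))} (hb : IsPBlock M b)
    (hbD : IsDefectGroup p M b (D.subgroupOf (Subgroup.centralizer ({z} : Set G)))) :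
    (∃ k : ℕ, orderOf z = p ^ k) ∧ blockDefect p b = blockDefect p B := by
  have : M.IsPrime := hM'.2.1.isPrime
  have hDC : D ≤ Subgroup.centralizer ({z} : Set G) := fun u hu =>
    mem_centralizer_singleton.2 (hzc u hu)
  obtain ⟨k, hk⟩ := IsPGroup.iff_orderOf.1 (IsDefectGroup.isPGroup hD) ⟨z, hzD⟩
  refine ⟨⟨k, by rw [← hk, ← Subgroup.orderOf_coe]⟩, Nat.pow_right_injective hM'.1.two_le ?_⟩
  show p ^ blockDefect p b = p ^ blockDefect p B
  rw [← IsDefectGroup.card_eq hM' hb hbD, ← IsDefectGroup.card_eq hM' hB hD,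
    Nat.card_congr (Subgroup.subgroupOfEquivOfLe hDC).toEquiv]

section Two

variable {M : Ideal AlgInt} [M.IsPrime] [Fact (Nat.Prime 2)] (hM : IsPModular 2 M)
  {y : G} {b : Set (IrrCharacter (Subgroup.centralizer ({y} : Set G)))}
  (hy : ∃ k : ℕ, orderOf y = 2 ^ k) {B : Set (IrrCharacter G)}
  (hind : IsInducedBlock M (Subgroup.centralizer ({y} : Set G)) b B)
include hM hy hind

/-- The height zero members against the rank of a subsection. -/
theorem height_zero_count :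
    (Odd (Nat.sqrt (blockRank 2 b)) →
      Nat.card {χ : IrrCharacter G // χ ∈ B ∧ blockHeight 2 B (χ : G → ℂ) = 0} ≤
        Nat.sqrt (blockRank 2 b) * 2 ^ blockDefect 2 b) ∧
    (¬ Odd (Nat.sqrt (blockRank 2 b)) → (Nat.sqrt (blockRank 2 b) + 1) *
      Nat.card {χ : IrrCharacter G // χ ∈ B ∧ blockHeight 2 B (χ : G → ℂ) = 0} ≤
        blockRank 2 b * 2 ^ blockDefect 2 b) := by
  have := Fintype.ofFinite (IrrCharacter G)
  obtain ⟨n, ζ, hζ, hyn⟩ := exists_root Nat.prime_two hy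
  set Bf := (Set.toFinite B).toFinset with hBf
  set S := Bf.filter (fun χ : IrrCharacter G => blockHeight 2 B (χ : G → ℂ) = 0) with hS
  have hcard : Nat.card {χ : IrrCharacter G // χ ∈ B ∧ blockHeight 2 B (χ : G → ℂ) = 0} = S.card := by
    rw [Nat.card_eq_fintype_card, Fintype.card_subtype]
    congr 1
    ext χ
    simp [hS, hBf]
  have hmem : ∀ χ ∈ S, χ ∈ B ∧ blockHeight 2 B (χ : G → ℂ) = 0 := fun χ hχ => by
    simpa [hS, hBf] using hχ
  have ht : ∀ χ : IrrCharacter G, ∃ t : ℤ, χ ∈ S →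
      avg ζ (2 ^ (n + 1)) (entry 2 y b χ χ) = t ∧ Odd t := fun χ => by
    by_cases hχ : χ ∈ S
    · obtain ⟨t, ht⟩ := exists_avg_entry_odd hM hy hind rfl hζ hyn (hmem χ hχ).1 (hmem χ hχ).2
      exact ⟨t, fun _ => ht⟩
    · exact ⟨0, fun h => absurd h hχ⟩
  choose t ht using ht
  rw [hcard]
  refine count_sqrt S t (fun χ ψ => avg ζ (2 ^ (n + 1)) (entry 2 y b χ ψ * conj (entry 2 y b χ ψ)))
    ?_ (fun χ hχ => ?_) (fun χ hχ => ?_) (fun ψ hψ χ hχ _ => ?_) (fun χ hχ => ?_)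
  · have h1 : ((∑ χ ∈ S, t χ : ℤ) : ℝ) ≤ ((2 ^ blockDefect 2 b : ℕ) : ℤ) * ((blockRank 2 b : ℕ) : ℤ) := by
      push_cast
      have h3 := sum_avg_self hM hy hind hζ hyn
      push_cast at h3
      rw [← h3, Finset.sum_congr rfl fun χ hχ => ((ht χ hχ).1).symm]
      refine Finset.sum_le_sum_of_subset_of_nonneg (Finset.filter_subset _ _) fun χ hχ _ => ?_
      by_cases hne : ∃ φ ∈ B, entry 2 y b χ φ ≠ 0
      · obtain ⟨φ, hφ, hne⟩ := hne
        exact (avg_entry_self_pos hM hy hind hζ hyn hφ hne).le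
      · push Not at hne
        rw [hne χ ((Set.Finite.mem_toFinset _).1 hχ)]
        simp [avg]
    exact_mod_cast h1
  · have h1 := sum_avg_row hM hy hind hζ hyn χ
    rw [(ht χ hχ).1] at h1
    push_cast at h1 ⊢
    rw [← h1]
    refine Finset.sum_le_sum_of_subset_of_nonneg (Finset.filter_subset _ _) fun φ _ _ => ?_
    by_cases hne : entry 2 y b χ φ = 0
    · simp [hne, avg]
    · exact zero_le_one.trans (one_le_avg_entry hM hy hind hζ hyn hne)
  · rw [← (ht χ hχ).1]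
    exact sq_avg_le_entry hM hy hind hζ hyn χ
  · exact one_le_avg_entry hM hy hind hζ hyn (entry_ne_zero_of_height_zero hM hy hind
      (hmem ψ hψ).1 (hmem χ hχ).1 (hmem ψ hψ).2 (hmem χ hχ).2)
  · refine ⟨?_, (ht χ hχ).2⟩
    have h1 := avg_entry_self_pos hM hy hind hζ hyn (hmem χ hχ).1
      (entry_ne_zero_of_height_zero hM hy hind (hmem χ hχ).1 (hmem χ hχ).1 (hmem χ hχ).2 (hmem χ hχ).2)
    rw [(ht χ hχ).1] at h1
    exact_mod_cast h1

/-- The weighted bound for a major subsection of small rank or corank. -/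
theorem weighted_major (hd : blockDefect 2 b = blockDefect 2 B)
    (hl : blockRank 2 b ≤ 3 ∨ Nat.card B ≤ blockRank 2 b + 3) :
    3 * (((Set.toFinite B).toFinset).filter
        fun χ : IrrCharacter G => blockHeight 2 B (χ : G → ℂ) = 0).card +
      2 * ∑ χ ∈ ((Set.toFinite B).toFinset).filter
        (fun χ : IrrCharacter G => 1 ≤ blockHeight 2 B (χ : G → ℂ)),
          2 ^ blockHeight 2 B (χ : G → ℂ) ≤ 3 * 2 ^ blockDefect 2 B := by
  have := Fintype.ofFinite (IrrCharacter G)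
  obtain ⟨n, ζ, hζ, hyn⟩ := exists_root Nat.prime_two hy
  obtain ⟨-, hB, -⟩ := isInducedBlock_iff.1 hind
  set S := (Set.toFinite B).toFinset
  have hmem : ∀ {χ}, χ ∈ S → χ ∈ B := fun hχ => (Set.Finite.mem_toFinset _).1 hχ
  let h : IrrCharacter G → ℕ := fun χ => blockHeight 2 B (χ : G → ℂ)
  let W : IrrCharacter G → IrrCharacter G → ℝ := fun χ ψ =>
    avg ζ (2 ^ (n + 1)) (entry 2 y b χ ψ * conj (entry 2 y b χ ψ))
  have ht : ∀ χ : IrrCharacter G, ∃ t : ℤ, χ ∈ S → avg ζ (2 ^ (n + 1)) (entry 2 y b χ χ) = t ∧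
      (h χ = 0 → Odd t) ∧ (1 ≤ h χ → (2 : ℤ) ^ (h χ + 1) ∣ t) := fun χ => by
    by_cases hχ : χ ∈ S
    · rcases Nat.eq_zero_or_pos (h χ) with h0 | h0
      · obtain ⟨t, ht, hodd⟩ := exists_avg_entry_odd hM hy hind rfl hζ hyn (hmem hχ) h0
        exact ⟨t, fun _ => ⟨ht, fun _ => hodd, fun h1 => by omega⟩⟩
      · obtain ⟨t, ht, hdvd⟩ := exists_avg_entry_dvd hM hy hind rfl hζ hyn hd (hmem hχ) h0
        exact ⟨t, fun _ => ⟨ht, fun h1 => by omega, fun _ => hdvd⟩⟩
    · exact ⟨0, fun h => absurd h hχ⟩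
  choose t ht using ht
  have hpos : ∀ χ ∈ S, 1 ≤ t χ := fun χ hχ => by
    obtain ⟨ψ, hψ, hψ0⟩ := exists_height_zero (p := 2) (IsPBlock.nonempty hB)
    have h1 := avg_entry_self_pos hM hy hind hζ hyn (χ := χ) hψ fun e =>
      entry_ne_zero hM hy hind hd (hmem hχ) hψ hψ0 (by rw [← conj_entry, e, map_zero])
    rw [(ht χ hχ).1] at h1
    exact_mod_cast h1
  have hp : ∀ χ ∈ S, 1 ≤ h χ → (2 : ℤ) ^ (h χ + 1) ≤ t χ := fun χ hχ h1 =>
    Int.le_of_dvd (hpos χ hχ) ((ht χ hχ).2.2 h1)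
  have hW : ∀ ψ ∈ S, h ψ = 0 → ∀ χ ∈ S, χ ≠ ψ → ((2 : ℝ) ^ h χ) ^ 2 ≤ W ψ χ :=
    fun ψ hψ hψ0 χ hχ _ => by
      have := pow_le_avg_entry_mul hM hy hind hζ hyn hd (hmem hχ) (hmem hψ) hψ0
      simpa [W, h] using this
  have hrow : ∀ χ ∈ S, ∑ ψ ∈ S, W χ ψ = ((2 ^ blockDefect 2 b : ℕ) : ℝ) * t χ := fun χ hχ => by
    rw [← (ht χ hχ).1]
    push_cast
    exact_mod_cast sum_avg_row hM hy hind hζ hyn χ
  have hsq : ∀ χ ∈ S, ((t χ : ℝ)) ^ 2 ≤ W χ χ := fun χ hχ => by
    rw [← (ht χ hχ).1]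
    exact sq_avg_le_entry hM hy hind hζ hyn χ
  have hsum : ∑ χ ∈ S, t χ = ((2 ^ blockDefect 2 b : ℕ) : ℤ) * blockRank 2 b := by
    have h1 : ((∑ χ ∈ S, t χ : ℤ) : ℝ) = (((2 ^ blockDefect 2 b : ℕ) : ℤ) * blockRank 2 b : ℤ) := by
      push_cast
      rw [Finset.sum_congr rfl fun χ hχ => ((ht χ hχ).1).symm]
      exact_mod_cast sum_avg_self hM hy hind hζ hyn
    exact_mod_cast h1
  rw [← hd]
  rcases hl with hl | hl
  · exact weighted_le S h t W hl hsum.le (fun χ hχ => (hrow χ hχ).le) hsq hW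
      (fun χ hχ h0 => ⟨hpos χ hχ, (ht χ hχ).2.1 h0⟩) hp
  -- pass to the complementary projection
  set q := 2 ^ blockDefect 2 b with hq
  have hS : S.card = Nat.card B := by
    rw [Nat.card_coe_set_eq, Set.ncard_eq_toFinset_card _ (Set.toFinite B)]
  by_cases hone : S.card ≤ 1
  · obtain ⟨ψ, hψ, hψ0⟩ := exists_height_zero (p := 2) (IsPBlock.nonempty hB)
    have hS1 : S = {ψ} := Finset.eq_singleton_iff_unique_mem.2
      ⟨(Set.Finite.mem_toFinset _).2 hψ, fun χ hχ =>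
        Finset.card_le_one.1 hone χ hχ ψ ((Set.Finite.mem_toFinset _).2 hψ)⟩
    rw [hS1, Finset.filter_singleton, Finset.filter_singleton, if_pos hψ0,
      if_neg (by omega), Finset.card_singleton, Finset.sum_empty]
    have : 1 ≤ q := Nat.one_le_two_pow
    omega
  push Not at hone
  have hlt : ∀ χ ∈ S, t χ < q := by
    intro χ hχ
    obtain ⟨φ, hφ, hne, h1⟩ : ∃ φ ∈ S, φ ≠ χ ∧ 1 ≤ W χ φ := by
      have hone' : ∀ u v : IrrCharacter G, entry 2 y b u v ≠ 0 → 1 ≤ W u v := fun u v hne =>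
        one_le_avg_entry hM hy hind hζ hyn hne
      rcases Nat.eq_zero_or_pos (h χ) with h0 | h0
      · obtain ⟨φ, hφ, hne⟩ := Finset.exists_mem_ne hone χ
        exact ⟨φ, hφ, hne, hone' _ _ (entry_ne_zero hM hy hind hd (hmem hφ) (hmem hχ) h0)⟩
      · obtain ⟨ψ, hψ, hψ0⟩ := exists_height_zero (p := 2) (IsPBlock.nonempty hB)
        refine ⟨ψ, (Set.Finite.mem_toFinset _).2 hψ, fun e => ?_, hone' _ _ fun e => ?_⟩
        · rw [← e] at h0; exact absurd hψ0 (Nat.pos_iff_ne_zero.1 h0)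
        · exact entry_ne_zero hM hy hind hd (hmem hχ) hψ hψ0 (by rw [← conj_entry, e, map_zero])
    have h2 : W χ χ + W χ φ ≤ (q : ℝ) * t χ := by
      rw [← hrow χ hχ, ← Finset.sum_pair (f := fun ψ => W χ ψ) (Ne.symm hne)]
      refine Finset.sum_le_sum_of_subset_of_nonneg
        (Finset.insert_subset hχ (Finset.singleton_subset_iff.2 hφ)) fun ψ _ _ => ?_
      by_cases hz : entry 2 y b χ ψ = 0
      · simp [W, hz, avg]
      · exact zero_le_one.trans (one_le_avg_entry hM hy hind hζ hyn hz)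
    have h3 := hsq χ hχ
    by_contra hge
    push Not at hge
    have h4 : (q : ℝ) ≤ t χ := by exact_mod_cast hge
    nlinarith [mul_le_mul_of_nonneg_right h4 (le_trans (Nat.cast_nonneg q) h4)]
  refine weighted_le (l := 3) S h (fun χ => (q : ℤ) - t χ)
    (fun χ ψ => if χ = ψ then (q : ℝ) ^ 2 - 2 * q * t χ + W χ χ else W χ ψ) le_rfl ?_ (fun χ hχ => ?_)
    (fun χ hχ => ?_) (fun ψ hψ hψ0 χ hχ hne => ?_) (fun χ hχ h0 => ?_) (fun χ hχ h1 => ?_)
  · rw [Finset.sum_sub_distrib, Finset.sum_const, hsum, nsmul_eq_mul, hS]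
    have : (Nat.card B : ℤ) ≤ blockRank 2 b + 3 := by exact_mod_cast hl
    push_cast
    nlinarith [mul_le_mul_of_nonneg_left this (Nat.cast_nonneg q : (0 : ℤ) ≤ q)]
  · rw [← Finset.add_sum_erase _ _ hχ, if_pos rfl, Finset.sum_congr rfl fun ψ hψ =>
      if_neg (Finset.ne_of_mem_erase hψ).symm]
    have h1 := hrow χ hχ
    rw [← Finset.add_sum_erase _ _ hχ] at h1
    push_cast
    nlinarith
  · rw [if_pos rfl]
    have := hsq χ hχ
    push_cast
    nlinarith
  · rw [if_neg hne.symm]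
    exact hW ψ hψ hψ0 χ hχ hne
  · have h2 := hlt χ hχ
    refine ⟨by omega, ?_⟩
    have hq2 : 2 ∣ (q : ℤ) := by
      have h3 := hpos χ hχ
      rcases Nat.eq_zero_or_pos (blockDefect 2 b) with hz | hz
      · rw [hq, hz] at h2
        simp at h2
        omega
      · rw [hq]
        push_cast
        exact dvd_pow_self 2 hz.ne'
    obtain ⟨a, ha⟩ := hq2
    obtain ⟨c, hc⟩ := (ht χ hχ).2.1 h0
    exact ⟨a - c - 1, by rw [ha, hc]; ring⟩
  · have h2 := hlt χ hχ
    have h3 := hp χ hχ h1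
    refine Int.le_of_dvd (by omega) (dvd_sub ?_ ((ht χ hχ).2.2 h1))
    rw [hq]
    push_cast
    refine pow_dvd_pow 2 ?_
    by_contra hlt'
    push Not at hlt'
    have h4 : (q : ℤ) ≤ 2 ^ (h χ + 1) := by
      rw [hq]; push_cast; exact pow_le_pow_right₀ one_le_two hlt'.le
    linarith

end Two

variable {M : Ideal AlgInt} [M.IsPrime]
  (hM : IsPModular p M) {y : G} {b : Set (IrrCharacter (Subgroup.centralizer ({y} : Set G)))}
  (hy : ∃ k : ℕ, orderOf y = p ^ k) {B : Set (IrrCharacter G)}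
  (hind : IsInducedBlock M (Subgroup.centralizer ({y} : Set G)) b B)

include hM hy hind in
/-- Brauer's bound for a major subsection of rank at most two. -/
theorem card_le_of_rank_le_two (hd : blockDefect p b = blockDefect p B) (hl : blockRank p b ≤ 2) :
    Nat.card B ≤ p ^ blockDefect p B := by
  have := Fintype.ofFinite (IrrCharacter G)
  have := Fintype.ofFinite (IrrCharacter (Subgroup.centralizer ({y} : Set G)))
  obtain ⟨n, ζ, hζ, hyn⟩ := exists_root hM.1 hy
  obtain ⟨hb, hB, -⟩ := isInducedBlock_iff.1 hind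
  set q := p ^ blockDefect p b with hq
  set S := (Set.toFinite B).toFinset
  have hmem : ∀ {χ}, χ ∈ S → χ ∈ B := fun hχ => (Set.Finite.mem_toFinset _).1 hχ
  rw [← hd, ← hq, show Nat.card B = S.card by
    rw [Nat.card_coe_set_eq, Set.ncard_eq_toFinset_card _ (Set.toFinite B)]]
  set N := p ^ (n + 1)
  set R := formR p b
  have hfin : (∀ χ ∈ S, (2 : ℝ) ≤ avg ζ N (entry p y b χ χ)) → S.card ≤ q := by
    intro h
    have h1 : ((2 * S.card : ℕ) : ℝ) ≤ ((2 * q : ℕ) : ℝ) := by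
      push_cast
      calc 2 * (S.card : ℝ) = ∑ _χ ∈ S, (2 : ℝ) := by rw [Finset.sum_const, nsmul_eq_mul, mul_comm]
        _ ≤ ∑ χ ∈ S, avg ζ N (entry p y b χ χ) := Finset.sum_le_sum h
        _ = (p : ℝ) ^ blockDefect p b * (blockRank p b : ℝ) := sum_avg_self hM hy hind hζ hyn
        _ ≤ 2 * ((p ^ blockDefect p b : ℕ) : ℝ) := by
          push_cast
          rw [mul_comm (2 : ℝ)]
          exact mul_le_mul_of_nonneg_left (by exact_mod_cast hl) (by positivity)
    have h2 : 2 * S.card ≤ 2 * q := by exact_mod_cast h1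
    omega
  choose f hf using fun (χ : IrrCharacter G)
    (η : IrrCharacter (Subgroup.centralizer ({y} : Set G))) => exists_coeff_vector hM hy hζ hyn χ η
  have hentry : ∀ χ ψ : IrrCharacter G, entry p y b χ ψ =
      ∑ η, ∑ η', (R η η' : ℂ) * (transCoeff y χ η * conj (transCoeff y ψ η')) := fun χ ψ => by
    simp only [entry_eq hM hb, colU, Finset.mul_sum, R]
    exact Finset.sum_congr rfl fun η _ => Finset.sum_congr rfl fun η' _ => by ring
  by_cases hv : ∀ v, form R v ≠ 1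
  · refine hfin fun χ hχ => ?_
    rcases avg_form hM.1 hζ R (form_nonneg hM hb) (fun v h => form_eq_zero hM hb h) (μ := 2)
      (by norm_num) (fun v h => by have := hv v; have : 0 ≤ form R v := form_nonneg hM hb v; omega) (f χ) with h | h
    · exfalso
      obtain ⟨ψ, hψ, hψ0⟩ := exists_height_zero (p := p) (IsPBlock.nonempty hB)
      refine entry_ne_zero hM hy hind hd (hmem hχ) hψ hψ0 ?_
      rw [entry_eq hM hb]
      refine Finset.sum_eq_zero fun η _ => ?_
      have h1 := congrArg conj (h η)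
      simp only [map_sum, map_mul, map_intCast, map_zero, hf] at h1
      rw [colU, h1, mul_zero]
    · simp only [hf] at h
      rw [hentry]
      exact_mod_cast h
  push Not at hv
  obtain ⟨v₀, hv₀⟩ := hv
  set la : IrrCharacter (Subgroup.centralizer ({y} : Set G)) → ℤ := fun η => ∑ η', R η η' * v₀ η'
    with hla
  set R' : IrrCharacter (Subgroup.centralizer ({y} : Set G)) →
      IrrCharacter (Subgroup.centralizer ({y} : Set G)) → ℤ := fun η η' => R η η' - la η * la η'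
    with hR'
  have hform : ∀ v, form R' v = form R v - (∑ η, la η * v η) ^ 2 := fun v => by
    simp only [form, hR', sq, Finset.sum_mul_sum, ← Finset.sum_sub_distrib]
    exact Finset.sum_congr rfl fun η _ => Finset.sum_congr rfl fun η' _ => by ring
  have hbil : ∀ (v : IrrCharacter (Subgroup.centralizer ({y} : Set G)) → ℤ), ∑ η, ∑ η', R η η' * (v₀ η * v η') = ∑ η, la η * v η := fun v => by
    rw [Finset.sum_comm]
    refine Finset.sum_congr rfl fun η' _ => ?_
    rw [hla, Finset.sum_mul]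
    refine Finset.sum_congr rfl fun η _ => ?_
    rw [show R η η' = R η' η from formR_comm hM hb η η']
    ring
  have hproj : ∀ (v : IrrCharacter (Subgroup.centralizer ({y} : Set G)) → ℤ), form R (fun η => v η - (∑ η', la η' * v η') * v₀ η) = form R' v := fun v => by
    set L := ∑ η', la η' * v η'
    have hb1 := hbil v
    have hb2 : ∑ η, ∑ η', R η η' * (v η * v₀ η') = L := by
      refine Finset.sum_congr rfl fun η _ => ?_
      rw [hla, Finset.sum_mul]
      exact Finset.sum_congr rfl fun η' _ => by ring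
    have he : form R (fun η => v η - L * v₀ η) = form R v - L * ∑ η, ∑ η', R η η' * (v₀ η * v η') -
        L * ∑ η, ∑ η', R η η' * (v η * v₀ η') + L ^ 2 * form R v₀ := by
      simp only [form, Finset.mul_sum, ← Finset.sum_sub_distrib, ← Finset.sum_add_distrib]
      exact Finset.sum_congr rfl fun η _ => Finset.sum_congr rfl fun η' _ => by ring
    rw [he, hb1, hb2, hv₀, hform]
    ring
  have hpos' : ∀ v, 0 ≤ form R' v := fun v => hproj v ▸ form_nonneg hM hb _
  have hker' : ∀ v, form R' v = 0 → ∀ η, ∑ η', R' η η' * v η' = 0 := by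
    intro v h η
    have h1 := form_eq_zero hM hb ((hproj v).trans h) η
    rw [← h1]
    simp only [hR', sub_mul, mul_sub, Finset.sum_sub_distrib]
    congr 1
    rw [show ∑ η', la η * la η' * v η' = la η * ∑ η', la η' * v η' by
      rw [Finset.mul_sum]; exact Finset.sum_congr rfl fun η' _ => by ring, hla, Finset.sum_mul]
    exact Finset.sum_congr rfl fun η' _ => by ring
  have hmin' : ∀ v, form R' v ≠ 0 → (2 : ℤ) ≤ form R' v := by
    intro v h
    have h1 := hpos' v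
    by_contra hlt
    refine not_orthonormal hM hb hv₀ ((hproj v).trans (by omega : form R' v = 1)) ?_
    rw [hbil]
    simp only [mul_sub, Finset.sum_sub_distrib]
    rw [show ∑ η, la η * ((∑ η', la η' * v η') * v₀ η) = (∑ η', la η' * v η') * ∑ η, la η * v₀ η by
      rw [Finset.mul_sum]; exact Finset.sum_congr rfl fun η _ => by ring, ← hbil v₀,
      show ∑ η, ∑ η', R η η' * (v₀ η * v₀ η') = 1 from hv₀, mul_one, sub_self]
  let u : IrrCharacter G → ℂ := fun χ => ∑ η, (la η : ℂ) * transCoeff y χ η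
  have hu : ∀ χ, 0 ≤ avg ζ N (u χ * conj (u χ)) ∧
      (u χ ≠ 0 → 1 ≤ avg ζ N (u χ * conj (u χ))) := by
    intro χ
    have e : u χ = ev ζ (fun i => ∑ η, la η * f χ η i) := by
      simp only [u, ← hf, ev, Finset.mul_sum, Int.cast_sum, Int.cast_mul, Finset.sum_mul]
      rw [Finset.sum_comm]
      exact Finset.sum_congr rfl fun i _ => Finset.sum_congr rfl fun η _ => by ring
    refine ⟨?_, fun h => ?_⟩
    · by_cases h : u χ = 0
      · simp [h, avg]
      · rw [e] at h ⊢; exact zero_le_one.trans (one_le_avg hM.1 hζ _ h)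
    · rw [e] at h ⊢; exact one_le_avg hM.1 hζ _ h
  have husum : ∑ χ ∈ S, avg ζ N (u χ * conj (u χ)) = q := by
    have h1 : ∀ χ, conj (u χ) = ∑ η, (v₀ η : ℂ) * colU p y b η χ := fun χ => by
      simp only [u, colU, map_sum, map_mul, map_intCast, hla, Int.cast_sum, Int.cast_mul,
        Finset.sum_mul, Finset.mul_sum]
      rw [Finset.sum_comm]
      refine Finset.sum_congr rfl fun η _ => Finset.sum_congr rfl fun η' _ => ?_
      rw [show formR p b η η' = R η' η from formR_comm hM hb η η']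
      ring
    rw [← avg_sum, show ∑ χ ∈ S, u χ * conj (u χ) = (q : ℂ) from ?_, avg_natCast hM.1]
    calc ∑ χ ∈ S, u χ * conj (u χ)
        = ∑ η, ∑ η', ((v₀ η * v₀ η' : ℤ) : ℂ) *
            ∑ χ ∈ S, colU p y b η χ * conj (colU p y b η' χ) := by
          rw [Finset.sum_congr rfl fun χ _ => show u χ * conj (u χ) = conj (u χ) * conj (conj (u χ)) by
            rw [Complex.conj_conj, mul_comm]]
          simp only [h1, map_sum, map_mul, map_intCast, Finset.sum_mul_sum]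
          rw [Finset.sum_comm]
          refine Finset.sum_congr rfl fun η _ => ?_
          rw [Finset.sum_comm]
          refine Finset.sum_congr rfl fun η' _ => ?_
          rw [Finset.mul_sum]
          exact Finset.sum_congr rfl fun χ _ => by push_cast; ring
      _ = ((p : ℂ) ^ blockDefect p b) * ((form R v₀ : ℤ) : ℂ) := by
          simp only [sum_colU_mul hM hy hind, S, form, R, Int.cast_sum, Int.cast_mul, Finset.mul_sum]
          exact Finset.sum_congr rfl fun η _ => Finset.sum_congr rfl fun η' _ => by push_cast; ring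
      _ = _ := by rw [hv₀, hq]; push_cast; ring
  by_cases hall : ∀ χ ∈ S, u χ ≠ 0
  · have h1 : ((S.card : ℕ) : ℝ) ≤ (q : ℝ) := by
      rw [← husum, Finset.card_eq_sum_ones, Nat.cast_sum]
      exact Finset.sum_le_sum fun χ hχ => by simpa using (hu χ).2 (hall χ hχ)
    exact_mod_cast h1
  push Not at hall
  obtain ⟨χ₁, hχ₁, hu₁⟩ := hall
  refine hfin fun χ hχ => ?_
  rcases Nat.eq_zero_or_pos (blockHeight p B (χ : G → ℂ)) with h0 | h0
  swap
  · refine le_trans ?_ (pow_le_avg_entry hM hy hind hζ hyn hd (hmem hχ))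
    calc (2 : ℝ) ≤ (p : ℝ) := by exact_mod_cast hM.1.two_le
      _ = (p : ℝ) ^ 1 := (pow_one _).symm
      _ ≤ _ := pow_le_pow_right₀ (by exact_mod_cast hM.1.one_le) h0
  rcases avg_form hM.1 hζ R' hpos' hker' (μ := 2) (by norm_num) hmin' (f χ) with h | h
  · exfalso
    refine entry_ne_zero hM hy hind hd (hmem hχ₁) (hmem hχ) h0 ?_
    have h2 : ∀ η, colU p y b η χ = (la η : ℂ) * conj (u χ) := fun η => by
      have h1 := congrArg conj (h η)
      simp only [map_sum, map_sub, map_mul, map_intCast, map_zero, hf, hR', Int.cast_sub, Int.cast_mul,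
        sub_mul, Finset.sum_sub_distrib, sub_eq_zero] at h1
      refine h1.trans ?_
      simp only [u, map_sum, map_mul, map_intCast, Finset.mul_sum]
      exact Finset.sum_congr rfl fun η' _ => by ring
    rw [← conj_entry, entry_eq hM hb, Finset.sum_congr rfl fun η _ => by rw [h2 η],
      show ∑ η, transCoeff y χ₁ η * ((la η : ℂ) * conj (u χ)) = u χ₁ * conj (u χ) by
        simp only [u, Finset.sum_mul]; exact Finset.sum_congr rfl fun η _ => by ring,
      hu₁, zero_mul, map_zero]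
  · simp only [hf] at h
    have hsplit : entry p y b χ χ = u χ * conj (u χ) +
        ∑ η, ∑ η', (R' η η' : ℂ) * (transCoeff y χ η * conj (transCoeff y χ η')) := by
      rw [hentry]
      simp only [u, map_sum, map_mul, map_intCast, Finset.sum_mul_sum, hR', Int.cast_sub, Int.cast_mul,
        ← Finset.sum_add_distrib]
      exact Finset.sum_congr rfl fun η _ => Finset.sum_congr rfl fun η' _ => by ring
    rw [hsplit, avg_add]
    have := (hu χ).1
    push_cast at h
    linarith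

end CfsgLib.Blocks.SubForm
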