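import Cfsg.Agent.Lib.Blocks.Cyclo.Form

/-!
# Averaged contributions of a subsection

The averages over Galois conjugates of the entries of the contribution matrix: row and trace
identities, lower bounds by the heights, and parities for `p = 2`.
-/

set_option autoImplicit false

namespace CfsgLib.Blocks.SubForm

open Cfsg CfsgLib.Char CfsgLib.CharAction CfsgLib.CycloTrace
open scoped ComplexConjugate Classical

variable {G : Type*} [Group G] [Fintype G] {p : ℕ} [Fact p.Prime] {M : Ideal AlgInt} [M.IsPrime]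
  (hM : IsPModular p M)
include hM

omit [Fintype G] [Group G] in
theorem resHom_ev {n : ℕ} {ζ : ℂ} (hζ : IsPrimitiveRoot ζ (p ^ (n + 1)))
    (f : Fin (p ^ (n + 1)) → ℤ) (z : localRing M) (hz : (z : ℂ) = ev ζ f) :
    resHom M z = ((∑ i, f i : ℤ) : Res M) := by
  let ζ' : localRing M := ⟨ζ, mem_localRing_of_pow_eq_one (pow_ne_zero _ hM.1.ne_zero) hζ.pow_eq_one⟩
  have hres : resHom M ζ' = 1 :=
    residue_eq_one_of_pow_prime_pow hM (k := n + 1) (Subtype.ext hζ.pow_eq_one)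
  have hz' : z = ∑ i, (f i : localRing M) * ζ' ^ (i : ℕ) := by
    refine Subtype.ext ?_
    rw [hz, AddSubmonoidClass.coe_finsetSum]
    simp [ev, ζ']
  rw [hz', map_sum, Int.cast_sum]
  exact Finset.sum_congr rfl fun i _ => by simp [hres]

variable {y : G} {b : Set (IrrCharacter (Subgroup.centralizer ({y} : Set G)))}
  (hy : ∃ k : ℕ, orderOf y = p ^ k) {B : Set (IrrCharacter G)}
  (hind : IsInducedBlock M (Subgroup.centralizer ({y} : Set G)) b B)
  {n : ℕ} {ζ : ℂ} (hζ : IsPrimitiveRoot ζ (p ^ (n + 1))) (hyn : orderOf y ∣ p ^ (n + 1))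
include hy hind hζ hyn

theorem exists_entry_ev (χ ψ : IrrCharacter G) :
    ∃ f : Fin (p ^ (n + 1)) → ℤ, ev ζ f = entry p y b χ ψ := by
  obtain ⟨P, hP⟩ := exists_entry_vector hM hy (isInducedBlock_iff.1 hind).1 hζ hyn χ ψ
  obtain ⟨f, hf, -⟩ := exists_ev hM.1 hζ P
  exact ⟨f, hf.trans hP⟩

theorem sum_avg_row [Fintype (IrrCharacter G)] (χ : IrrCharacter G) :
    ∑ φ ∈ (Set.toFinite B).toFinset,
        avg ζ (p ^ (n + 1)) (entry p y b χ φ * conj (entry p y b χ φ)) =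
      (p : ℝ) ^ blockDefect p b * avg ζ (p ^ (n + 1)) (entry p y b χ χ) := by
  rw [← avg_sum, sum_entry_mul hM hy hind χ χ,
    show (p : ℂ) ^ blockDefect p b = ((p ^ blockDefect p b : ℕ) : ℂ) by push_cast; ring, avg_natCast_mul]
  push_cast
  ring

theorem sum_avg_self :
    ∑ χ ∈ (Set.toFinite B).toFinset, avg ζ (p ^ (n + 1)) (entry p y b χ χ) =
      (p : ℝ) ^ blockDefect p b * (blockRank p b : ℝ) := by
  rw [← avg_sum, sum_entry_self hM hy hind, avg_natCast hM.1]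
  push_cast
  ring

theorem one_le_avg_entry {χ ψ : IrrCharacter G} (h : entry p y b χ ψ ≠ 0) :
    1 ≤ avg ζ (p ^ (n + 1)) (entry p y b χ ψ * conj (entry p y b χ ψ)) := by
  obtain ⟨f, hf⟩ := exists_entry_ev hM hy hind hζ hyn χ ψ
  rw [← hf] at h ⊢
  exact one_le_avg hM.1 hζ f h

omit hζ hyn in
theorem entry_ne_zero_of_height_zero {χ ψ : IrrCharacter G} (hχ : χ ∈ B) (hψ : ψ ∈ B)
    (hχ0 : blockHeight p B (χ : G → ℂ) = 0) (hψ0 : blockHeight p B (ψ : G → ℂ) = 0) :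
    entry p y b χ ψ ≠ 0 := by
  obtain ⟨z, hz, hz0⟩ := exists_residue_ne_zero hM hy hind rfl hχ hψ hχ0 hψ0
  intro h
  refine hz0 ?_
  rw [show z = 0 from Subtype.ext (by
    rw [hz, sum_transCoeff_mul_regCoeff hM (isInducedBlock_iff.1 hind).1]
    exact h), map_zero]

omit hζ hyn in
theorem entry_ne_zero (hd : blockDefect p b = blockDefect p B) {χ ψ : IrrCharacter G} (hχ : χ ∈ B)
    (hψ : ψ ∈ B) (hψ0 : blockHeight p B (ψ : G → ℂ) = 0) : entry p y b ψ χ ≠ 0 :=
  mul_ne_zero (pow_ne_zero _ (Nat.cast_ne_zero.2 hM.1.ne_zero))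
    (contribution_ne_zero_of_height_zero hM hy hind hd hχ hψ hψ0)

/-- The entries are divisible by the height part. -/
theorem exists_entry_div (hd : blockDefect p b = blockDefect p B) {χ : IrrCharacter G} (hχ : χ ∈ B)
    (ψ : IrrCharacter G) :
    ∃ g : Fin (p ^ (n + 1)) → ℤ,
      entry p y b ψ χ = (p : ℂ) ^ blockHeight p B (χ : G → ℂ) * ev ζ g := by
  obtain ⟨z, hz, hz'⟩ := exists_contribution_eq hM hy hind hχ ψ
  rw [← hd] at hz'
  obtain ⟨P, hP⟩ := exists_entry_vector hM hy (isInducedBlock_iff.1 hind).1 hζ hyn ψ χ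
  set h := blockHeight p B (χ : G → ℂ)
  have hp0 : (p : ℂ) ≠ 0 := Nat.cast_ne_zero.2 hM.1.ne_zero
  have hc : ((((p : ℚ) ^ h)⁻¹ : ℚ) : ℂ) * Polynomial.aeval ζ P = z := by
    rw [hP, show entry p y b ψ χ = (p : ℂ) ^ h * z from hz']
    push_cast
    rw [inv_mul_cancel_left₀ (pow_ne_zero _ hp0)]
  obtain ⟨Q, hQ⟩ := ComplexAut.exists_intPoly_of_isIntegral (pow_ne_zero _ hM.1.ne_zero) hζ
    (((p : ℚ) ^ h)⁻¹) P (by rw [hc]; exact hz)
  obtain ⟨g, hg, -⟩ := exists_ev hM.1 hζ Q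
  refine ⟨g, ?_⟩
  have h1 := hQ 1 (Nat.coprime_one_left _)
  rw [pow_one, hc] at h1
  rw [hg, ← h1]
  exact hz'

theorem pow_le_avg_entry_mul (hd : blockDefect p b = blockDefect p B) {χ ψ : IrrCharacter G}
    (hχ : χ ∈ B) (hψ : ψ ∈ B) (hψ0 : blockHeight p B (ψ : G → ℂ) = 0) :
    ((p : ℝ) ^ blockHeight p B (χ : G → ℂ)) ^ 2 ≤
      avg ζ (p ^ (n + 1)) (entry p y b ψ χ * conj (entry p y b ψ χ)) := by
  obtain ⟨g, hg⟩ := exists_entry_div hM hy hind hζ hyn hd hχ ψ
  have hg0 : ev ζ g ≠ 0 := fun h => entry_ne_zero hM hy hind hd hχ hψ hψ0 (by rw [hg, h, mul_zero])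
  rw [hg, map_mul, map_pow, map_natCast,
    show ((p : ℂ) ^ blockHeight p B (χ : G → ℂ) * ev ζ g) * ((p : ℂ) ^ blockHeight p B (χ : G → ℂ) *
      conj (ev ζ g)) = ((p ^ blockHeight p B (χ : G → ℂ) * p ^ blockHeight p B (χ : G → ℂ) : ℕ) : ℂ) *
        (ev ζ g * conj (ev ζ g)) by push_cast; ring, avg_natCast_mul]
  have h1 := one_le_avg hM.1 hζ g hg0
  push_cast
  rw [sq]
  exact le_mul_of_one_le_right (by positivity) h1

theorem sq_avg_le_entry (χ : IrrCharacter G) :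
    avg ζ (p ^ (n + 1)) (entry p y b χ χ) ^ 2 ≤
      avg ζ (p ^ (n + 1)) (entry p y b χ χ * conj (entry p y b χ χ)) := by
  obtain ⟨f, hf⟩ := exists_entry_ev hM hy hind hζ hyn χ χ
  rw [← hf]
  exact sq_avg_le hM.1 hζ f

/-- The diagonal entries are totally positive. -/
theorem aut_entry_self_pos [Fintype (IrrCharacter G)] {χ φ : IrrCharacter G} (hφ : φ ∈ B)
    (hne : entry p y b χ φ ≠ 0) {k : ℕ} (hk : k ∈ units (p ^ (n + 1))) :
    ∃ r : ℝ, 0 < r ∧ autOf ζ k (entry p y b χ χ) = (r : ℂ) := by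
  have h := congrArg (autOf ζ k) (sum_entry_mul hM hy hind χ χ)
  rw [map_sum, map_mul, map_pow, map_natCast, Finset.sum_congr rfl fun ψ _ => by
    obtain ⟨f, hf⟩ := exists_entry_ev hM hy hind hζ hyn χ ψ
    rw [map_mul, ← hf, aut_conj_ev hM.1 hζ hk, Complex.mul_conj, hf]] at h
  rw [← Complex.ofReal_sum] at h
  set S := ∑ ψ ∈ (Set.toFinite B).toFinset, Complex.normSq (autOf ζ k (entry p y b χ ψ))
  have hS : 0 < S := lt_of_lt_of_le (Complex.normSq_pos.2 ((map_ne_zero _).2 hne))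
    (Finset.single_le_sum (f := fun ψ => Complex.normSq (autOf ζ k (entry p y b χ ψ)))
      (fun ψ _ => Complex.normSq_nonneg _) ((Set.Finite.mem_toFinset _).2 hφ))
  have hq : (0 : ℝ) < (p : ℝ) ^ blockDefect p b := pow_pos (Nat.cast_pos.2 hM.1.pos) _
  refine ⟨S / (p : ℝ) ^ blockDefect p b, div_pos hS hq, ?_⟩
  push_cast
  rw [h, mul_div_cancel_left₀ _ (pow_ne_zero _ (Nat.cast_ne_zero.2 hM.1.ne_zero))]

theorem avg_entry_self_pos [Fintype (IrrCharacter G)] {χ φ : IrrCharacter G} (hφ : φ ∈ B)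
    (hne : entry p y b χ φ ≠ 0) : 0 < avg ζ (p ^ (n + 1)) (entry p y b χ χ) := by
  refine mul_pos (inv_pos.2 (Nat.cast_pos.2 (card_units_pos hM.1 n)))
    (Finset.sum_pos (fun k hk => ?_) (Finset.card_pos.1 (card_units_pos hM.1 n)))
  obtain ⟨r, hr, e⟩ := aut_entry_self_pos hM hy hind hζ hyn hφ hne hk
  rw [e]
  simpa using hr

/-- Brauer's bound on the diagonal by the height. -/
theorem pow_le_avg_entry [Fintype (IrrCharacter G)] (hd : blockDefect p b = blockDefect p B)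
    {χ : IrrCharacter G} (hχ : χ ∈ B) :
    (p : ℝ) ^ blockHeight p B (χ : G → ℂ) ≤ avg ζ (p ^ (n + 1)) (entry p y b χ χ) := by
  obtain ⟨hb, hB, -⟩ := isInducedBlock_iff.1 hind
  obtain ⟨ψ, hψ, hψ0⟩ := exists_height_zero (p := p) (IsPBlock.nonempty hB)
  have hne : entry p y b χ ψ ≠ 0 := fun h => entry_ne_zero hM hy hind hd hχ hψ hψ0 (by
    rw [← conj_entry, h, map_zero])
  obtain ⟨g, hg⟩ := exists_entry_div hM hy hind hζ hyn hd hχ χ
  rw [hg, show (p : ℂ) ^ blockHeight p B (χ : G → ℂ) = ((p ^ blockHeight p B (χ : G → ℂ) : ℕ) : ℂ) by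
    push_cast; ring, avg_natCast_mul]
  push_cast
  refine le_mul_of_one_le_right (by positivity) (one_le_avg_of_pos hM.1 hζ g fun k hk => ?_)
  obtain ⟨r, hr, e⟩ := aut_entry_self_pos hM hy hind hζ hyn hψ hne hk
  refine ⟨r / (p : ℝ) ^ blockHeight p B (χ : G → ℂ),
    div_pos hr (pow_pos (Nat.cast_pos.2 hM.1.pos) _), ?_⟩
  rw [hg, map_mul, map_pow, map_natCast] at e
  push_cast
  rw [← e, mul_div_cancel_left₀ _ (pow_ne_zero _ (Nat.cast_ne_zero.2 hM.1.ne_zero))]

section Two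

omit hζ hyn in
/-- For height zero a diagonal entry has an odd average. -/
theorem exists_avg_entry_odd {n : ℕ} {ζ : ℂ} (hp : p = 2) (hζ : IsPrimitiveRoot ζ (p ^ (n + 1)))
    (hyn : orderOf y ∣ p ^ (n + 1)) {χ : IrrCharacter G} (hχ : χ ∈ B)
    (hχ0 : blockHeight p B (χ : G → ℂ) = 0) :
    ∃ t : ℤ, avg ζ (p ^ (n + 1)) (entry p y b χ χ) = t ∧ Odd t := by
  subst hp
  obtain ⟨f, hf⟩ := exists_entry_ev hM hy hind hζ hyn χ χ
  obtain ⟨t, ht, hdvd⟩ := exists_avg_real hζ f (by rw [hf, conj_entry])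
  rw [hf] at ht
  refine ⟨t, ht, Int.not_even_iff_odd.1 fun he => ?_⟩
  obtain ⟨z, hz, hz0⟩ := exists_residue_ne_zero hM hy hind rfl hχ hχ hχ0 hχ0
  refine hz0 ?_
  rw [resHom_ev hM hζ f z (by
    rw [hz, sum_transCoeff_mul_regCoeff hM (isInducedBlock_iff.1 hind).1, hf]; rfl)]
  have := charP_residueField hM
  rw [CharP.intCast_eq_zero_iff (Res M) 2]
  have h2 : (2 : ℤ) ∣ t := even_iff_two_dvd.1 he
  have h3 := dvd_sub h2 hdvd
  simpa using h3

omit hy hind hζ hyn in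
/-- The `p'`-part of a degree. -/
theorem exists_degree_split_unit {B : Set (IrrCharacter G)} (hB : IsPBlock M B) {χ : IrrCharacter G}
    (hχ : χ ∈ B) :
    ∃ s r : ℕ, ¬ p ∣ s ∧ ¬ p ∣ r ∧ ∀ u w : ℂ, (Nat.card G : ℂ) * u = (χ : G → ℂ) 1 * w →
      (p : ℂ) ^ blockDefect p B * u * r = (p : ℂ) ^ blockHeight p B (χ : G → ℂ) * (s * w) := by
  obtain ⟨r, hr, hrp⟩ := exists_factorization (p := p) (Nat.card_pos (α := G)).ne'
  obtain ⟨s, hs, hsp⟩ := exists_factorization (p := p) (charDegree_pos χ).ne'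
  refine ⟨s, r, hsp, hrp, fun u w h => ?_⟩
  have hdeg : (charDegree (χ : G → ℂ)).factorization p =
      minExp p B + blockHeight p B (χ : G → ℂ) := by
    have h1 := minExp_le (p := p) hχ
    have h2 : blockHeight p B (χ : G → ℂ) = (charDegree (χ : G → ℂ)).factorization p - minExp p B :=
      rfl
    omega
  rw [apply_one_eq_charDegree, hs, hdeg, hr, card_eq_minExp_add hM hB, pow_add, pow_add] at h
  push_cast at h
  refine mul_left_cancel₀ (pow_ne_zero (minExp p B) (Nat.cast_ne_zero.2 hM.1.ne_zero : (p : ℂ) ≠ 0)) ?_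
  linear_combination h

omit hζ hyn in
/-- For positive height a diagonal entry has average divisible by twice the height part. -/
theorem exists_avg_entry_dvd [Fintype (IrrCharacter G)] {n : ℕ} {ζ : ℂ} (hp : p = 2)
    (hζ : IsPrimitiveRoot ζ (p ^ (n + 1))) (hyn : orderOf y ∣ p ^ (n + 1))
    (hd : blockDefect p b = blockDefect p B) {χ : IrrCharacter G} (hχ : χ ∈ B)
    (hh : 1 ≤ blockHeight p B (χ : G → ℂ)) :
    ∃ t : ℤ, avg ζ (p ^ (n + 1)) (entry p y b χ χ) = t ∧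
      (2 : ℤ) ^ (blockHeight p B (χ : G → ℂ) + 1) ∣ t := by
  subst hp
  set h := blockHeight 2 B (χ : G → ℂ) with hdef
  obtain ⟨hb, hB, -⟩ := isInducedBlock_iff.1 hind
  have := Fintype.ofFinite (IrrCharacter (Subgroup.centralizer ({y} : Set G)))
  have := Fintype.ofFinite (ConjClasses (Subgroup.centralizer ({y} : Set G)))
  have := charP_residueField hM
  have hres2 : resHom M (2 : localRing M) = 0 := by
    rw [map_ofNat]
    exact CharP.cast_eq_zero (Res M) 2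
  obtain ⟨ψ, hψ, hψ0⟩ := exists_height_zero (p := 2) (IsPBlock.nonempty hB)
  obtain ⟨g, hg⟩ := exists_entry_div hM hy hind hζ hyn hd hχ χ
  have hreal : conj (ev ζ g) = ev ζ g := by
    have h1 := conj_entry (p := 2) y b χ χ
    rw [hg, map_mul, map_pow, map_natCast] at h1
    exact mul_left_cancel₀ (pow_ne_zero _ (by norm_num : ((2 : ℕ) : ℂ) ≠ 0)) h1
  obtain ⟨t, ht, hdvd⟩ := exists_avg_real hζ g hreal
  refine ⟨(2 : ℤ) ^ h * t, ?_, ?_⟩
  · rw [hg, show ((2 : ℕ) : ℂ) ^ h = ((2 ^ h : ℕ) : ℂ) by push_cast; ring, avg_natCast_mul, ht]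
    push_cast
    ring
  rw [pow_succ]
  refine mul_dvd_mul_left _ ?_
  -- the residue of the quotient
  let a : IrrCharacter (Subgroup.centralizer ({y} : Set G)) → localRing M :=
    fun η => ⟨_, mem_localRing_of_isIntegral (isIntegral_transCoeff y χ η)⟩
  let w : IrrCharacter G → IrrCharacter (Subgroup.centralizer ({y} : Set G)) → localRing M :=
    fun φ η => ⟨_, mem_localRing_of_isIntegral (isIntegral_classCoeff (p := 2) (x := y) η φ)⟩
  let T : IrrCharacter G → localRing M := fun φ => ∑ η ∈ (Set.toFinite b).toFinset, a η * w φ η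
  have hT : resHom M (T χ) = resHom M (T ψ) := by
    simp only [T, map_sum, map_mul]
    exact Finset.sum_congr rfl fun η _ => congrArg _
      (resHom_classCoeff_eq η (IsPBlock.sameBlock hB hχ hψ))
  have hsum : ∀ φ ∈ B, ∃ s r : ℕ, ¬ 2 ∣ s ∧ ¬ 2 ∣ r ∧ entry 2 y b χ φ * r =
      (2 : ℂ) ^ blockHeight 2 B (φ : G → ℂ) * (s * (T φ : ℂ)) := by
    intro φ hφ
    obtain ⟨s, r, hs, hr, hsr⟩ := exists_degree_split_unit hM hB hφ
    refine ⟨s, r, hs, hr, ?_⟩
    rw [entry, ← sum_transCoeff_mul_regCoeff hM hb, hd]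
    simp only [T, a, w, AddSubmonoidClass.coe_finsetSum, Subring.coe_mul, Finset.mul_sum,
      Finset.sum_mul]
    refine Finset.sum_congr rfl fun η _ => ?_
    have h1 := hsr _ _ (card_mul_regCoeff hy η φ)
    push_cast at h1 ⊢
    linear_combination transCoeff y χ η * h1
  obtain ⟨s, r, -, hr, hrz⟩ := hsum χ hχ
  obtain ⟨s', r', hs', -, hrz'⟩ := hsum ψ hψ
  -- against height zero the entry is in the ideal
  obtain ⟨g', hg'⟩ := exists_entry_div hM hy hind hζ hyn hd hχ ψ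
  have hi : IsIntegral ℤ (conj (ev ζ g')) := by
    have hz : IsIntegral ℤ (ev ζ g') := IsIntegral.sum _ fun i _ =>
      ((eq_intCast (algebraMap ℤ ℂ) (g' i) ▸ isIntegral_algebraMap : IsIntegral ℤ ((g' i : ℤ) : ℂ))).mul
        ((hζ.isIntegral (pow_pos two_pos _)).pow _)
    exact hz.map (starRingEnd ℂ).toIntAlgHom
  have hTψ : resHom M (T ψ) = 0 := by
    rw [hψ0, pow_zero, one_mul, ← conj_entry, hg', map_mul, map_pow, map_natCast, ← hdef] at hrz'
    have e : (s' : localRing M) * T ψ =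
        (2 : localRing M) ^ h * ⟨_, mem_localRing_of_isIntegral hi⟩ * (r' : localRing M) := by
      refine Subtype.ext ?_
      push_cast
      exact hrz'.symm
    have e' := congrArg (resHom M) e
    rw [map_mul, map_mul, map_mul, map_pow, hres2, zero_pow (by omega), zero_mul, zero_mul,
      map_natCast, mul_eq_zero] at e'
    refine e'.resolve_left fun h4 => hs' ?_
    exact (CharP.cast_eq_zero_iff (Res M) 2 s').1 h4
  rw [← hdef, hg] at hrz
  have hz : IsIntegral ℤ (ev ζ g) := IsIntegral.sum _ fun i _ =>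
    ((eq_intCast (algebraMap ℤ ℂ) (g i) ▸ isIntegral_algebraMap : IsIntegral ℤ ((g i : ℤ) : ℂ))).mul
      ((hζ.isIntegral (pow_pos two_pos _)).pow _)
  have e : (⟨_, mem_localRing_of_isIntegral hz⟩ : localRing M) * (r : localRing M) =
      (s : localRing M) * T χ := by
    refine Subtype.ext (mul_left_cancel₀ (pow_ne_zero h (two_ne_zero (α := ℂ))) ?_)
    push_cast at hrz ⊢
    linear_combination hrz
  have e' := congrArg (resHom M) e
  rw [map_mul, map_mul, hT, hTψ, mul_zero, resHom_ev hM hζ g _ rfl, mul_eq_zero, map_natCast,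
    CharP.intCast_eq_zero_iff (Res M) 2, CharP.cast_eq_zero_iff (Res M) 2] at e'
  have h3 := dvd_add hdvd (e'.resolve_right hr)
  simpa using h3

end Two

end CfsgLib.Blocks.SubForm
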