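import Cfsg.Agent.Lib.Blocks.Cyclo.Trace
import Cfsg.Agent.Lib.Blocks.SubsectionHeight

/-!
# The contribution matrix as an integral form in the translation coefficients

For a subsection `(y, b)` with `b` of defect `d`, the numbers `p ^ d * contribution` are the values
of an integral positive semidefinite form on the irreducible characters of `C(y)` at the vectors
`transCoeff`, whose entries are natural multiples of `p`-power roots of unity.
-/

set_option autoImplicit false

namespace CfsgLib.Blocks.SubForm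

open Cfsg CfsgLib.Char CfsgLib.CharAction CfsgLib.CycloTrace
open scoped ComplexConjugate Classical

variable {G : Type*} [Group G] [Fintype G] {p : ℕ} [Fact p.Prime]

/-- `p ^ d` times the inner product on `p`-regular elements, on the members of `b`. -/
noncomputable def formR (p : ℕ) {C : Type*} [Group C] [Fintype C] (b : Set (IrrCharacter C))
    (η η' : IrrCharacter C) : ℤ :=
  if η ∈ b ∧ η' ∈ b then
    ⌊((p : ℂ) ^ blockDefect p b * classInner (regCut p (η : C → ℂ)) (η' : C → ℂ)).re⌋
  else 0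

/-- The entry of the contribution matrix. -/
noncomputable def entry (p : ℕ) (y : G)
    (b : Set (IrrCharacter (Subgroup.centralizer ({y} : Set G)))) (χ ψ : IrrCharacter G) : ℂ :=
  (p : ℂ) ^ blockDefect p b * contribution p y b χ ψ

/-- The entry against a member of the centralizer. -/
noncomputable def colU (p : ℕ) (y : G)
    (b : Set (IrrCharacter (Subgroup.centralizer ({y} : Set G))))
    [Fintype (IrrCharacter (Subgroup.centralizer ({y} : Set G)))]
    (η : IrrCharacter (Subgroup.centralizer ({y} : Set G))) (χ : IrrCharacter G) : ℂ :=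
  ∑ η', (formR p b η η' : ℂ) * conj (transCoeff y χ η')

omit [Fact p.Prime] in
theorem conj_entry (y : G) (b : Set (IrrCharacter (Subgroup.centralizer ({y} : Set G))))
    (χ ψ : IrrCharacter G) : conj (entry p y b χ ψ) = entry p y b ψ χ := by
  simp only [entry, contribution, map_mul, map_pow, map_natCast, map_inv₀, map_sum,
    Complex.conj_conj]
  exact congrArg _ (congrArg _ (Finset.sum_congr rfl fun w _ => mul_comm _ _))

variable {M : Ideal AlgInt} [M.IsPrime] (hM : IsPModular p M)
include hM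

section Centralizer

variable {C : Type*} [Group C] [Fintype C] {b : Set (IrrCharacter C)} (hb : IsPBlock M b)
include hb

theorem exists_scaled {η : IrrCharacter C} (hη : η ∈ b) (ξ : IrrCharacter C) :
    ∃ k : ℤ, (regNum p (η : C → ℂ) (ξ : C → ℂ) : ℤ) = (p : ℤ) ^ minExp p b * k ∧
      (p : ℂ) ^ blockDefect p b * classInner (regCut p (η : C → ℂ)) (ξ : C → ℂ) = (k : ℂ) := by
  obtain ⟨k, hk⟩ : (p : ℤ) ^ minExp p b ∣ regNum p (η : C → ℂ) (ξ : C → ℂ) :=
    (pow_dvd_pow _ (minExp_le hη)).trans (pow_dvd_regNum_left η ξ)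
  refine ⟨k, hk, mul_left_cancel₀ (pow_ne_zero (minExp p b)
    (Nat.cast_ne_zero.2 hM.1.ne_zero : (p : ℂ) ≠ 0)) ?_⟩
  have h2 := regNum_eq (p := p) η ξ
  rw [card_eq_minExp_add hM hb, hk] at h2
  push_cast at h2
  rw [← mul_assoc, ← pow_add]
  exact h2

theorem formR_eq {η η' : IrrCharacter C} (hη : η ∈ b) (hη' : η' ∈ b) :
    (formR p b η η' : ℂ) =
      (p : ℂ) ^ blockDefect p b * classInner (regCut p (η : C → ℂ)) (η' : C → ℂ) := by
  obtain ⟨k, -, hk⟩ := exists_scaled hM hb hη η'
  rw [formR, if_pos ⟨hη, hη'⟩, hk, Complex.intCast_re, Int.floor_intCast]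

theorem classInner_regCut_eq_zero {η ξ : IrrCharacter C} (hη : η ∈ b) (hξ : ξ ∉ b) :
    classInner (regCut p (η : C → ℂ)) (ξ : C → ℂ) = 0 := by
  have h2 := regNum_eq (p := p) η ξ
  rw [regNum_eq_zero_of_notMem hM hb hη hξ, Int.cast_zero, mul_eq_zero] at h2
  exact h2.resolve_left (Nat.cast_ne_zero.2 (pow_ne_zero _ hM.1.ne_zero))

omit hM hb in
theorem classInner_regCut (η η' : IrrCharacter C) :
    classInner (regCut p (η : C → ℂ)) (η' : C → ℂ) = (Nat.card C : ℂ)⁻¹ *
      ∑ w ∈ Finset.univ.filter (fun w : C => ¬ p ∣ orderOf w),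
        (η : C → ℂ) w * conj ((η' : C → ℂ) w) := by
  rw [classInner, Finset.sum_filter]
  congr 1
  refine Finset.sum_congr rfl fun w _ => ?_
  by_cases hw : p ∣ orderOf w <;> simp [regCut, hw]

theorem formR_comm (η η' : IrrCharacter C) : formR p b η η' = formR p b η' η := by
  by_cases h : η ∈ b ∧ η' ∈ b
  · apply Int.cast_injective (α := ℂ)
    show (formR p b η η' : ℂ) = (formR p b η' η : ℂ)
    rw [← map_intCast (starRingEnd ℂ) (formR p b η η'), formR_eq hM hb h.1 h.2, formR_eq hM hb h.2 h.1,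
      classInner_regCut, classInner_regCut, map_mul, map_pow, map_natCast, map_mul, map_inv₀,
      map_natCast, map_sum]
    congr 2
    exact Finset.sum_congr rfl fun w _ => by rw [map_mul, Complex.conj_conj, mul_comm]
  · rw [formR, if_neg h, formR, if_neg fun h' => h ⟨h'.2, h'.1⟩]

variable [Fintype (IrrCharacter C)]

/-- The form is `p ^ d / |C|` times the norm on regular elements. -/
theorem sum_formR_mul (η : IrrCharacter C) (hη : η ∈ b) (v : IrrCharacter C → ℤ) :
    ((∑ η', formR p b η η' * v η' : ℤ) : ℂ) = (p : ℂ) ^ blockDefect p b * ((Nat.card C : ℂ)⁻¹ *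
      ∑ w ∈ Finset.univ.filter (fun w : C => ¬ p ∣ orderOf w), (η : C → ℂ) w *
        conj (∑ η' ∈ (Set.toFinite b).toFinset, (v η' : ℂ) * (η' : C → ℂ) w)) := by
  push_cast
  rw [← Finset.sum_subset (Finset.subset_univ (Set.toFinite b).toFinset) fun η' _ hη' => by
    rw [formR, if_neg fun h => hη' ((Set.Finite.mem_toFinset _).2 h.2), Int.cast_zero, zero_mul]]
  simp only [map_sum, map_mul, map_intCast, Finset.mul_sum]
  rw [Finset.sum_comm]
  refine Finset.sum_congr rfl fun η' hη' => ?_
  rw [formR_eq hM hb hη ((Set.Finite.mem_toFinset _).1 hη'), classInner_regCut]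
  simp only [Finset.mul_sum, Finset.sum_mul]
  exact Finset.sum_congr rfl fun w _ => by ring

theorem form_formR (v : IrrCharacter C → ℤ) :
    (form (formR p b) v : ℂ) = (p : ℂ) ^ blockDefect p b * ((Nat.card C : ℂ)⁻¹ *
      ∑ w ∈ Finset.univ.filter (fun w : C => ¬ p ∣ orderOf w),
        (Complex.normSq (∑ η' ∈ (Set.toFinite b).toFinset, (v η' : ℂ) * (η' : C → ℂ) w) : ℂ)) := by
  have h1 : form (formR p b) v = ∑ η, v η * ∑ η', formR p b η η' * v η' := by
    simp only [form, Finset.mul_sum]
    exact Finset.sum_congr rfl fun η _ => Finset.sum_congr rfl fun η' _ => by ring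
  rw [h1]
  push_cast
  rw [← Finset.sum_subset (Finset.subset_univ (Set.toFinite b).toFinset) fun η _ hη => by
    rw [Finset.sum_eq_zero fun η' _ => by
      rw [formR, if_neg fun h => hη ((Set.Finite.mem_toFinset _).2 h.1), Int.cast_zero, zero_mul],
      mul_zero]]
  rw [Finset.sum_congr rfl fun η hη => by
    rw [show (∑ η', (formR p b η η' : ℂ) * (v η' : ℂ)) = _ from
      (by push_cast; rfl : (∑ η', (formR p b η η' : ℂ) * (v η' : ℂ)) =
        ((∑ η', formR p b η η' * v η' : ℤ) : ℂ)).trans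
        (sum_formR_mul hM hb η ((Set.Finite.mem_toFinset _).1 hη) v)]]
  simp only [← Complex.mul_conj, Finset.mul_sum, Finset.sum_mul]
  rw [Finset.sum_comm]
  exact Finset.sum_congr rfl fun w _ => Finset.sum_congr rfl fun η _ => by ring

theorem form_nonneg (v : IrrCharacter C → ℤ) : 0 ≤ form (formR p b) v := by
  have h := congrArg Complex.re (form_formR hM hb v)
  rw [Complex.intCast_re, ← Complex.ofReal_sum, ← Complex.ofReal_natCast (Nat.card C),
    ← Complex.ofReal_natCast p, ← Complex.ofReal_inv, ← Complex.ofReal_pow, ← Complex.ofReal_mul,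
    ← Complex.ofReal_mul, Complex.ofReal_re] at h
  have : (0 : ℝ) ≤ (form (formR p b) v : ℝ) := by
    rw [h]
    exact mul_nonneg (by positivity) (mul_nonneg (by positivity)
      (Finset.sum_nonneg fun w _ => Complex.normSq_nonneg _))
  exact_mod_cast this

theorem form_eq_zero {v : IrrCharacter C → ℤ} (hv : form (formR p b) v = 0) (η : IrrCharacter C) :
    ∑ η', formR p b η η' * v η' = 0 := by
  by_cases hη : η ∈ b
  swap
  · exact Finset.sum_eq_zero fun η' _ => by rw [formR, if_neg fun h => hη h.1, zero_mul]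
  have h := form_formR hM hb v
  rw [hv, Int.cast_zero, eq_comm, mul_eq_zero, mul_eq_zero, ← Complex.ofReal_sum,
    Complex.ofReal_eq_zero, Finset.sum_eq_zero_iff_of_nonneg fun w _ => Complex.normSq_nonneg _] at h
  have h' := (h.resolve_left (pow_ne_zero _ (Nat.cast_ne_zero.2 hM.1.ne_zero))).resolve_left
    (inv_ne_zero (Nat.cast_ne_zero.2 Nat.card_pos.ne'))
  apply Int.cast_injective (α := ℂ)
  show ((∑ η', formR p b η η' * v η' : ℤ) : ℂ) = ((0 : ℤ) : ℂ)
  rw [sum_formR_mul hM hb η hη v, Finset.sum_eq_zero fun w hw => by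
    rw [Complex.normSq_eq_zero.1 (h' w hw), map_zero, mul_zero]]
  simp

/-- Modulo `p` the form has rank one, so it has no pair of orthonormal vectors. -/
theorem not_orthonormal {v w : IrrCharacter C → ℤ} (hv : form (formR p b) v = 1)
    (hw : form (formR p b) w = 1) : ∑ η, ∑ η', formR p b η η' * (v η * w η') ≠ 0 := by
  intro hvw
  obtain ⟨ξ₀, hξ₀⟩ := IsPBlock.nonempty hb
  have := charP_residueField hM
  have hu : ∀ η ξ : IrrCharacter C, ∃ u : localRing M,
      (regNum p (η : C → ℂ) (ξ : C → ℂ) : ℂ) = (u : ℂ) * (ξ : C → ℂ) 1 ∧ (ξ ∈ b →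
      ∀ u₀ : localRing M, (regNum p (η : C → ℂ) (ξ₀ : C → ℂ) : ℂ) = (u₀ : ℂ) * (ξ₀ : C → ℂ) 1 →
        resHom M u = resHom M u₀) := by
    intro η ξ
    by_cases hξ : ξ ∈ b
    · obtain ⟨u, u', hu, hu', huu⟩ := exists_quotient_congr hM η (IsPBlock.sameBlock hb hξ hξ₀)
      refine ⟨u, hu, fun _ u₀ hu₀ => ?_⟩
      rw [show u₀ = u' from Subtype.ext (mul_right_cancel₀ (IsIrr.apply_one_ne_zero ξ₀.2)
        (hu₀.symm.trans hu'))]
      exact huu
    · obtain ⟨u, -, hu, -, -⟩ := exists_quotient_congr hM η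
        (IsPBlock.sameBlock (isPBlock_blockOf ξ) (mem_blockOf_self ξ) (mem_blockOf_self ξ))
      exact ⟨u, hu, fun h => absurd h hξ⟩
  choose u hu hu' using hu
  have hn : ∀ ξ : IrrCharacter C, ∃ n : ℕ, ξ ∈ b → charDegree (ξ : C → ℂ) = p ^ minExp p b * n :=
    fun ξ => by
      by_cases h : ξ ∈ b
      · exact (exists_degree_eq_minExp_mul h).imp fun _ h' _ => h'
      · exact ⟨0, fun h' => absurd h' h⟩
  choose n hn using hn
  -- the residues
  let U : IrrCharacter C → Res M := fun η => if η ∈ b then resHom M (u η ξ₀) else 0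
  let D : IrrCharacter C → Res M := fun ξ => if ξ ∈ b then (n ξ : Res M) else 0
  have hR : ∀ η ξ, (formR p b η ξ : Res M) = U η * D ξ := by
    intro η ξ
    by_cases h : η ∈ b ∧ ξ ∈ b
    · obtain ⟨k, hk, hk'⟩ := exists_scaled hM hb h.1 ξ
      have hRk : formR p b η ξ = k := by
        rw [formR, if_pos h, hk', Complex.intCast_re, Int.floor_intCast]
      have e : ((k : localRing M) : ℂ) = ((u η ξ * (n ξ : localRing M) : localRing M) : ℂ) := by
        have h1 := hu η ξ
        rw [apply_one_eq_charDegree, hn ξ h.2, hk] at h1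
        push_cast at h1 ⊢
        refine mul_left_cancel₀ (pow_ne_zero (minExp p b)
          (Nat.cast_ne_zero.2 hM.1.ne_zero : (p : ℂ) ≠ 0)) ?_
        linear_combination h1
      have e' := congrArg (resHom M) (Subtype.ext e)
      rw [map_intCast, map_mul, map_natCast, hu' η ξ h.2 _ (hu η ξ₀)] at e'
      rw [hRk, e']
      simp [U, D, h.1, h.2]
    · rw [formR, if_neg h, Int.cast_zero]
      by_cases h1 : η ∈ b
      · simp [U, D, show ξ ∉ b from fun h2 => h ⟨h1, h2⟩]
      · simp [U, h1]
  have hbil : ∀ s t : IrrCharacter C → ℤ,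
      ((∑ η, ∑ ξ, formR p b η ξ * (s η * t ξ) : ℤ) : Res M) =
        (∑ η, (s η : Res M) * U η) * ∑ ξ, (t ξ : Res M) * D ξ := fun s t => by
    push_cast
    simp only [hR, Finset.sum_mul_sum]
    exact Finset.sum_congr rfl fun η _ => Finset.sum_congr rfl fun ξ _ => by ring
  have e1 := hbil v v
  have e2 := hbil w w
  have e3 := hbil v w
  rw [show ∑ η, ∑ ξ, formR p b η ξ * (v η * v ξ) = 1 from hv, Int.cast_one] at e1
  rw [show ∑ η, ∑ ξ, formR p b η ξ * (w η * w ξ) = 1 from hw, Int.cast_one] at e2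
  rw [hvw, Int.cast_zero, eq_comm, mul_eq_zero] at e3
  rcases e3 with h | h
  · rw [h, zero_mul] at e1; exact one_ne_zero e1
  · rw [h, mul_zero] at e2; exact one_ne_zero e2

end Centralizer

variable {y : G} {b : Set (IrrCharacter (Subgroup.centralizer ({y} : Set G)))}

theorem colU_eq [Fintype (IrrCharacter (Subgroup.centralizer ({y} : Set G)))] (hb : IsPBlock M b)
    {η : IrrCharacter (Subgroup.centralizer ({y} : Set G))} (hη : η ∈ b) (χ : IrrCharacter G) :
    colU p y b η χ = (p : ℂ) ^ blockDefect p b * regCoeff p y η χ := by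
  set θ : Subgroup.centralizer ({y} : Set G) → ℂ := fun c => (χ : G → ℂ) (y * (c : G))
  have hθ : IsClassFunction _ θ := isClassFunction_apply_mul (Char.IsIrr.isClassFunction χ.2)
  have h : regCoeff p y η χ = ∑ η', conj (transCoeff y χ η') *
      classInner (regCut p (η : Subgroup.centralizer ({y} : Set G) → ℂ))
        (η' : Subgroup.centralizer ({y} : Set G) → ℂ) := by
    simp only [regCoeff, classInner_regCut, Finset.mul_sum]
    rw [Finset.sum_comm]
    refine Finset.sum_congr rfl fun w _ => ?_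
    rw [show (χ : G → ℂ) (y * (w : G)) = θ w from rfl, Char.classFunction_apply_eq_sum hθ w, map_sum,
      Finset.mul_sum, Finset.mul_sum]
    refine Finset.sum_congr rfl fun η' _ => ?_
    simp only [map_mul, transCoeff, θ]
    ring
  rw [h, Finset.mul_sum, colU]
  refine Finset.sum_congr rfl fun η' _ => ?_
  by_cases hη' : η' ∈ b
  · rw [formR_eq hM hb hη hη']; ring
  · rw [formR, if_neg fun h => hη' h.2, classInner_regCut_eq_zero hM hb hη hη']
    simp

/-- The entries as values of the form. -/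
theorem entry_eq [Fintype (IrrCharacter (Subgroup.centralizer ({y} : Set G)))] (hb : IsPBlock M b)
    (χ ψ : IrrCharacter G) :
    entry p y b χ ψ = ∑ η, transCoeff y χ η * colU p y b η ψ := by
  rw [entry, ← sum_transCoeff_mul_regCoeff hM hb, Finset.mul_sum,
    ← Finset.sum_subset (Finset.subset_univ (Set.toFinite b).toFinset) fun η _ hη => by
      rw [colU, Finset.sum_eq_zero fun η' _ => by
        rw [formR, if_neg fun h => hη ((Set.Finite.mem_toFinset _).2 h.1), Int.cast_zero, zero_mul],
        mul_zero]]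
  refine Finset.sum_congr rfl fun η hη => ?_
  rw [colU_eq hM hb ((Set.Finite.mem_toFinset _).1 hη)]
  ring

variable (hy : ∃ k : ℕ, orderOf y = p ^ k) {B : Set (IrrCharacter G)}
  (hind : IsInducedBlock M (Subgroup.centralizer ({y} : Set G)) b B)
include hy hind

theorem colU_eq_zero [Fintype (IrrCharacter (Subgroup.centralizer ({y} : Set G)))]
    (η : IrrCharacter (Subgroup.centralizer ({y} : Set G))) {χ : IrrCharacter G} (hχ : χ ∉ B) :
    colU p y b η χ = 0 := by
  obtain ⟨hb, -, -⟩ := isInducedBlock_iff.1 hind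
  by_cases hη : η ∈ b
  swap
  · exact Finset.sum_eq_zero fun η' _ => by rw [formR, if_neg fun h => hη h.1, Int.cast_zero, zero_mul]
  set θ : Subgroup.centralizer ({y} : Set G) → ℂ := fun c => (χ : G → ℂ) (y * (c : G))
  have hvan : ∀ w : Subgroup.centralizer ({y} : Set G), ¬ p ∣ orderOf w → blockPart b θ w = 0 :=
    fun w hw => blockPart_eq_zero_of_not_induced hM hy (isPBlock_blockOf χ) (mem_blockOf_self χ) hb
      (fun h => hχ (IsInducedBlock.eq hind h ▸ mem_blockOf_self χ)) hw
  have h1 : colU p y b η χ = (p : ℂ) ^ blockDefect p b * ((Nat.card (Subgroup.centralizer ({y} : Set G)) : ℂ)⁻¹ *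
      ∑ w ∈ Finset.univ.filter (fun w : Subgroup.centralizer ({y} : Set G) => ¬ p ∣ orderOf w),
        (η : Subgroup.centralizer ({y} : Set G) → ℂ) w * conj (blockPart b θ w)) := by
    rw [colU, ← Finset.sum_subset (Finset.subset_univ (Set.toFinite b).toFinset) fun η' _ hη' => by
      rw [formR, if_neg fun h => hη' ((Set.Finite.mem_toFinset _).2 h.2), Int.cast_zero, zero_mul]]
    simp only [blockPart_eq, finsum_mem_eq_finite_toFinset_sum _ (Set.toFinite b), map_sum, map_mul,
      Finset.mul_sum]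
    rw [Finset.sum_comm]
    refine Finset.sum_congr rfl fun η' hη' => ?_
    rw [formR_eq hM hb hη ((Set.Finite.mem_toFinset _).1 hη'), classInner_regCut]
    simp only [Finset.mul_sum, Finset.sum_mul, transCoeff, θ]
    exact Finset.sum_congr rfl fun w _ => by ring
  rw [h1, Finset.sum_eq_zero fun w hw => by
    rw [hvan w (Finset.mem_filter.1 hw).2, map_zero, mul_zero]]
  simp

/-- The columns have Gram matrix `p ^ d` times the form. -/
theorem sum_colU_mul [Fintype (IrrCharacter (Subgroup.centralizer ({y} : Set G)))]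
    [Fintype (IrrCharacter G)] (η η' : IrrCharacter (Subgroup.centralizer ({y} : Set G))) :
    ∑ χ ∈ (Set.toFinite B).toFinset, colU p y b η χ * conj (colU p y b η' χ) =
      (p : ℂ) ^ blockDefect p b * formR p b η η' := by
  obtain ⟨hb, -, -⟩ := isInducedBlock_iff.1 hind
  rw [Finset.sum_subset (Finset.subset_univ _) fun χ _ hχ => by
    rw [colU_eq_zero hM hy hind η fun h => hχ ((Set.Finite.mem_toFinset _).2 h), zero_mul]]
  by_cases hη : η ∈ b
  swap
  · rw [formR, if_neg fun h => hη h.1]
    simp [colU, formR, hη]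
  by_cases hη' : η' ∈ b
  swap
  · rw [formR, if_neg fun h => hη' h.2]
    simp [colU, formR, hη']
  rw [formR_eq hM hb hη hη', classInner_regCut]
  simp only [colU_eq hM hb hη, colU_eq hM hb hη', regCoeff]
  set nC : ℂ := (Nat.card (Subgroup.centralizer ({y} : Set G)) : ℂ) with hnC
  set R := Finset.univ.filter (fun w : (Subgroup.centralizer ({y} : Set G)) => ¬ p ∣ orderOf w) with hR
  have hnC0 : nC ≠ 0 := Nat.cast_ne_zero.2 Nat.card_pos.ne'
  have hinner : ∀ w ∈ R, ∑ w' ∈ R, conj ((η' : (Subgroup.centralizer ({y} : Set G)) → ℂ) w') *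
      ∑ χ : IrrCharacter G, (χ : G → ℂ) (y * (w' : G)) * conj ((χ : G → ℂ) (y * (w : G))) =
        nC * conj ((η' : (Subgroup.centralizer ({y} : Set G)) → ℂ) w) := by
    intro w hw
    have hwr : ¬ p ∣ orderOf w := (Finset.mem_filter.1 hw).2
    have hmaps : ∀ c ∈ (Finset.univ : Finset (Subgroup.centralizer ({y} : Set G))), c * w * c⁻¹ ∈ R := fun c _ => by
      simp only [hR, Finset.mem_filter, Finset.mem_univ, true_and]
      rwa [show c * w * c⁻¹ = MulAut.conj c w from rfl, MulEquiv.orderOf_eq]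
    rw [hnC, Nat.card_eq_fintype_card, ← Finset.card_univ, ← nsmul_eq_mul, ← Finset.sum_const,
      ← Finset.sum_fiberwise_of_maps_to hmaps]
    refine Finset.sum_congr rfl fun w' hw' => ?_
    have hcol : ∑ χ : IrrCharacter G, (χ : G → ℂ) (y * (w' : G)) * conj ((χ : G → ℂ) (y * (w : G))) =
        conj (∑ χ : IrrCharacter G, (χ : G → ℂ) (y * (w : G)) * conj ((χ : G → ℂ) (y * (w' : G)))) := by
      simp [map_sum, mul_comm]
    rw [hcol, Char.column_orthogonality,
      ← card_conj_eq_centralizer hy hwr (Finset.mem_filter.1 hw').2, map_natCast, Finset.sum_congr rfl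
        (g := fun _ => conj ((η' : (Subgroup.centralizer ({y} : Set G)) → ℂ) w')) fun c hc => ?_, Finset.sum_const, nsmul_eq_mul, mul_comm]
    rw [← (Finset.mem_filter.1 hc).2, Char.IsIrr.isClassFunction η'.2]
  set q : ℂ := (p : ℂ) ^ blockDefect p b with hq
  calc ∑ χ : IrrCharacter G, q * (nC⁻¹ * ∑ w ∈ R, (η : (Subgroup.centralizer ({y} : Set G)) → ℂ) w * conj ((χ : G → ℂ) (y * (w : G)))) *
        conj (q * (nC⁻¹ * ∑ w ∈ R, (η' : (Subgroup.centralizer ({y} : Set G)) → ℂ) w * conj ((χ : G → ℂ) (y * (w : G)))))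
      = q * q * nC⁻¹ * nC⁻¹ * ∑ w ∈ R, (η : (Subgroup.centralizer ({y} : Set G)) → ℂ) w * ∑ w' ∈ R, conj ((η' : (Subgroup.centralizer ({y} : Set G)) → ℂ) w') *
          ∑ χ : IrrCharacter G, (χ : G → ℂ) (y * (w' : G)) * conj ((χ : G → ℂ) (y * (w : G))) := by
        simp only [hq, hnC, map_mul, map_pow, map_inv₀, map_natCast, map_sum, Complex.conj_conj,
          Finset.mul_sum, Finset.sum_mul]
        rw [Finset.sum_comm]
        refine ((Finset.sum_congr rfl fun w' _ => Finset.sum_comm).trans Finset.sum_comm).trans ?_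
        exact Finset.sum_congr rfl fun w _ => Finset.sum_congr rfl fun w' _ =>
          Finset.sum_congr rfl fun χ _ => by ring
    _ = q * q * nC⁻¹ * nC⁻¹ * ∑ w ∈ R, nC * ((η : (Subgroup.centralizer ({y} : Set G)) → ℂ) w * conj ((η' : (Subgroup.centralizer ({y} : Set G)) → ℂ) w)) := by
        refine congrArg _ (Finset.sum_congr rfl fun w hw => ?_)
        rw [hinner w hw]
        ring
    _ = _ := by
        rw [← Finset.mul_sum]
        field_simp

/-- The row identity. -/
theorem sum_entry_mul [Fintype (IrrCharacter G)] (χ ψ : IrrCharacter G) :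
    ∑ φ ∈ (Set.toFinite B).toFinset, entry p y b χ φ * conj (entry p y b ψ φ) =
      (p : ℂ) ^ blockDefect p b * entry p y b χ ψ := by
  have := Fintype.ofFinite (IrrCharacter (Subgroup.centralizer ({y} : Set G)))
  obtain ⟨hb, -, -⟩ := isInducedBlock_iff.1 hind
  calc ∑ φ ∈ (Set.toFinite B).toFinset, entry p y b χ φ * conj (entry p y b ψ φ)
      = ∑ η, ∑ η', transCoeff y χ η * conj (transCoeff y ψ η') *
          ∑ φ ∈ (Set.toFinite B).toFinset, colU p y b η φ * conj (colU p y b η' φ) := by
        simp only [entry_eq hM hb, map_sum, map_mul, Finset.sum_mul_sum]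
        rw [Finset.sum_comm]
        refine Finset.sum_congr rfl fun η _ => ?_
        rw [Finset.sum_comm]
        refine Finset.sum_congr rfl fun η' _ => ?_
        rw [Finset.mul_sum]
        exact Finset.sum_congr rfl fun φ _ => by ring
    _ = _ := by
        simp only [sum_colU_mul hM hy hind]
        simp only [entry_eq hM hb, colU, Finset.mul_sum]
        exact Finset.sum_congr rfl fun η _ => Finset.sum_congr rfl fun η' _ => by ring

theorem sum_entry_self : ∑ χ ∈ (Set.toFinite B).toFinset, entry p y b χ χ =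
    ((p ^ blockDefect p b * blockRank p b : ℕ) : ℂ) := by
  have h := sum_block_blockPart_norm hM hy hind
  rw [finsum_mem_eq_finite_toFinset_sum _ (Set.toFinite B)] at h
  simp only [entry, contribution]
  rw [← Finset.mul_sum, ← Finset.mul_sum, h]
  push_cast
  rw [inv_mul_cancel_left₀ (Nat.cast_ne_zero.2 Nat.card_pos.ne')]

omit hind in
/-- The translation coefficients are natural multiples of powers of `ζ`. -/
theorem exists_transCoeff {n : ℕ} {ζ : ℂ} (hζ : IsPrimitiveRoot ζ (p ^ (n + 1)))
    (hyn : orderOf y ∣ p ^ (n + 1)) (χ : IrrCharacter G)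
    (η : IrrCharacter (Subgroup.centralizer ({y} : Set G))) :
    ∃ (c j : ℕ), transCoeff y χ η = (c : ℂ) * ζ ^ j := by
  set yC : Subgroup.centralizer ({y} : Set G) := ⟨y, mem_centralizer_singleton.2 (Commute.refl y)⟩
  have hcentral : ∀ g : Subgroup.centralizer ({y} : Set G), g * yC = yC * g :=
    fun g => Subtype.ext (mem_centralizer_singleton.1 g.2).eq
  obtain ⟨c, hc⟩ := Char.IsChar.classInner_eq_natCast
    (Char.IsChar.restrict (Subgroup.centralizer ({y} : Set G)) (Char.IsIrr.isCharacter χ.2))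
    (Char.IsIrr.isCharacter η.2)
  have h : transCoeff y χ η = (η : Subgroup.centralizer ({y} : Set G) → ℂ) yC /
      (η : Subgroup.centralizer ({y} : Set G) → ℂ) 1 * (c : ℂ) := by
    rw [← hc]
    exact classInner_translate (fun c : Subgroup.centralizer ({y} : Set G) => (χ : G → ℂ) c)
      η hcentral
  have h1 := Char.IsIrr.apply_one_ne_zero η.2
  set r := (η : Subgroup.centralizer ({y} : Set G) → ℂ) yC /
      (η : Subgroup.centralizer ({y} : Set G) → ℂ) 1
  have hpow : ∀ m : ℕ, r ^ m =
      (η : Subgroup.centralizer ({y} : Set G) → ℂ) (yC ^ m) /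
        (η : Subgroup.centralizer ({y} : Set G) → ℂ) 1 := by
    intro m
    induction m with
    | zero => rw [pow_zero, pow_zero, div_self h1]
    | succ m ih =>
      rw [pow_succ', pow_succ', ih]
      have h2 := apply_central_mul η hcentral (yC ^ m)
      simp only [r]
      field_simp
      linear_combination -h2
  have : NeZero (p ^ (n + 1)) := ⟨pow_ne_zero _ hM.1.ne_zero⟩
  obtain ⟨j, -, hj⟩ := hζ.eq_pow_of_pow_eq_one (ξ := r) (by
    rw [hpow, show yC ^ p ^ (n + 1) = 1 from orderOf_dvd_iff_pow_eq_one.1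
      (by rwa [← Subgroup.orderOf_coe]), div_self h1])
  exact ⟨c, j, by rw [h, ← hj, mul_comm]⟩

omit hind in
/-- The translation coefficients as elements of `ℤ[ζ]`. -/
theorem exists_coeff_vector {n : ℕ} {ζ : ℂ} (hζ : IsPrimitiveRoot ζ (p ^ (n + 1)))
    (hyn : orderOf y ∣ p ^ (n + 1)) (χ : IrrCharacter G)
    (η : IrrCharacter (Subgroup.centralizer ({y} : Set G))) :
    ∃ f : Fin (p ^ (n + 1)) → ℤ, ev ζ f = transCoeff y χ η := by
  obtain ⟨c, j, h⟩ := exists_transCoeff hM hy hζ hyn χ η
  obtain ⟨f, hf, -⟩ := exists_ev hM.1 hζ (Polynomial.C (c : ℤ) * Polynomial.X ^ j)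
  exact ⟨f, by rw [hf, h]; simp⟩

omit hind in
/-- The entries as elements of `ℤ[ζ]`. -/
theorem exists_entry_vector (hb : IsPBlock M b) {n : ℕ} {ζ : ℂ}
    (hζ : IsPrimitiveRoot ζ (p ^ (n + 1))) (hyn : orderOf y ∣ p ^ (n + 1)) (χ ψ : IrrCharacter G) :
    ∃ P : Polynomial ℤ, Polynomial.aeval ζ P = entry p y b χ ψ := by
  have := Fintype.ofFinite (IrrCharacter (Subgroup.centralizer ({y} : Set G)))
  choose c j h using fun χ η => exists_transCoeff hM hy hζ hyn χ η
  refine ⟨∑ η, ∑ η', Polynomial.C (formR p b η η' * c χ η * c ψ η') *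
    Polynomial.X ^ (j χ η + (p ^ (n + 1) - 1) * j ψ η'), ?_⟩
  simp only [map_sum, map_mul, map_pow, Polynomial.aeval_C, Polynomial.aeval_X, entry_eq hM hb, colU, map_intCast,
    Finset.mul_sum, h, map_natCast, conj_zeta hM.1 hζ, eq_intCast]
  refine Finset.sum_congr rfl fun η _ => Finset.sum_congr rfl fun η' _ => ?_
  rw [pow_add ζ, pow_mul]
  ring

end CfsgLib.Blocks.SubForm
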