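import Cfsg.Agent.Lib.Char.ComplexAut
import Cfsg.Agent.Lib.CharAction.Galois
import Mathlib.Algebra.Order.Chebyshev
import Mathlib.Tactic.LinearCombination

/-!
# Averages over Galois conjugates in a cyclotomic ring of prime power order

For `x` in `ℤ[ζ]`, `ζ` of order `p ^ (n + 1)`, the average of `σ x` over the Galois group is computed
from the Ramanujan sums; a positive semidefinite integral form evaluated at such numbers has average
at least its least positive value.
-/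

set_option autoImplicit false

namespace CfsgLib.CycloTrace

open scoped ComplexConjugate

/-- The residues prime to `N`. -/
def units (N : ℕ) : Finset ℕ := (Finset.range N).filter fun k => N.Coprime k

open scoped Classical in
/-- An automorphism of `ℂ` with `ζ ↦ ζ ^ k`, when there is one. -/
noncomputable def autOf (ζ : ℂ) (k : ℕ) : ℂ →+* ℂ :=
  if h : ∃ σ : ℂ ≃+* ℂ, σ ζ = ζ ^ k then (Classical.choose h).toRingHom else RingHom.id ℂ

/-- The average of the conjugates. -/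
noncomputable def avg (ζ : ℂ) (N : ℕ) (x : ℂ) : ℝ :=
  ((units N).card : ℝ)⁻¹ * ∑ k ∈ units N, (autOf ζ k x).re

/-- The element of `ℤ[ζ]` with given coefficients. -/
noncomputable def ev {N : ℕ} (ζ : ℂ) (f : Fin N → ℤ) : ℂ := ∑ i, (f i : ℂ) * ζ ^ (i : ℕ)

theorem avg_add (ζ : ℂ) (N : ℕ) (x y : ℂ) : avg ζ N (x + y) = avg ζ N x + avg ζ N y := by
  simp [avg, Finset.sum_add_distrib, mul_add]

theorem avg_sum {ι : Type*} (ζ : ℂ) (N : ℕ) (s : Finset ι) (x : ι → ℂ) :
    avg ζ N (∑ i ∈ s, x i) = ∑ i ∈ s, avg ζ N (x i) := by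
  simp only [avg, map_sum, Complex.re_sum, Finset.mul_sum]
  exact Finset.sum_comm

theorem avg_intCast_mul (ζ : ℂ) (N : ℕ) (a : ℤ) (x : ℂ) :
    avg ζ N ((a : ℂ) * x) = a * avg ζ N x := by
  simp only [avg, map_mul, map_intCast, Finset.mul_sum]
  refine Finset.sum_congr rfl fun k _ => ?_
  simp
  ring

theorem avg_natCast_mul (ζ : ℂ) (N : ℕ) (a : ℕ) (x : ℂ) :
    avg ζ N ((a : ℂ) * x) = a * avg ζ N x := by
  exact_mod_cast avg_intCast_mul ζ N a x

theorem card_units {p : ℕ} (hp : p.Prime) (n : ℕ) :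
    (units (p ^ (n + 1))).card = p ^ n * (p - 1) :=
  Nat.totient_prime_pow_succ hp n

theorem card_units_pos {p : ℕ} (hp : p.Prime) (n : ℕ) : 0 < (units (p ^ (n + 1))).card := by
  rw [card_units hp]
  exact Nat.mul_pos (pow_pos hp.pos n) (Nat.sub_pos_of_lt hp.one_lt)

theorem geom_eq {x : ℂ} {K : ℕ} (h : x ^ K = 1) [Decidable (x = 1)] :
    ∑ k ∈ Finset.range K, x ^ k = if x = 1 then (K : ℂ) else 0 := by
  split_ifs with hx
  · simp [hx]
  · have h1 := geom_sum_mul x K
    rw [h, sub_self] at h1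
    exact (mul_eq_zero.1 h1).resolve_right (sub_ne_zero.2 hx)

/-- `d` divides `i + (N - 1) j` exactly when `i ≡ j`, for `d` dividing `N`. -/
theorem dvd_iff_mod_eq {N d : ℕ} (hN : 0 < N) (hd : d ∣ N) (i j : ℕ) :
    d ∣ i + (N - 1) * j ↔ i % d = j % d := by
  have h1 : i + (N - 1) * j + j = i + N * j := by
    obtain ⟨M, rfl⟩ : ∃ M, N = M + 1 := ⟨N - 1, by omega⟩
    simp
    ring
  have h2 : (i + (N - 1) * j + j) % d = i % d := by
    rw [h1, Nat.add_mod, Nat.mul_mod, Nat.mod_eq_zero_of_dvd hd]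
    simp
  refine ⟨fun h => ?_, fun h => ?_⟩
  · rw [← h2, Nat.add_mod, Nat.mod_eq_zero_of_dvd h]
    simp
  · rw [Nat.dvd_iff_mod_eq_zero]
    have h3 : (i + (N - 1) * j + j) ≡ 0 + j [MOD d] := by
      show _ % d = _ % d
      rw [h2, zero_add, h]
    exact Nat.ModEq.add_right_cancel' j h3

variable {p n : ℕ} {ζ : ℂ}

theorem autOf_apply (hp : p.Prime) (hζ : IsPrimitiveRoot ζ (p ^ (n + 1))) {k : ℕ}
    (hk : k ∈ units (p ^ (n + 1))) : autOf ζ k ζ = ζ ^ k := by
  have h : ∃ σ : ℂ ≃+* ℂ, σ ζ = ζ ^ k :=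
    ComplexAut.exists_aut (pow_ne_zero _ hp.ne_zero) hζ (Finset.mem_filter.1 hk).2.symm
  rw [autOf, dif_pos h]
  exact Classical.choose_spec h

theorem conj_zeta (hp : p.Prime) (hζ : IsPrimitiveRoot ζ (p ^ (n + 1))) :
    conj ζ = ζ ^ (p ^ (n + 1) - 1) := by
  have hN : 0 < p ^ (n + 1) := pow_pos hp.pos _
  have h1 : ‖ζ‖ = 1 := Complex.norm_eq_one_of_pow_eq_one hζ.pow_eq_one hN.ne'
  have h2 : conj ζ * ζ = 1 := by rw [mul_comm, Complex.mul_conj', h1]; simp
  have h3 : ζ ^ (p ^ (n + 1) - 1) * ζ = 1 := by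
    rw [← pow_succ, Nat.sub_add_cancel hN, hζ.pow_eq_one]
  exact mul_right_cancel₀ (hζ.ne_zero hN.ne') (h2.trans h3.symm)

/-- The Ramanujan sum. -/
theorem sum_units_pow (hp : p.Prime) (hζ : IsPrimitiveRoot ζ (p ^ (n + 1))) (m : ℕ) :
    ∑ k ∈ units (p ^ (n + 1)), (ζ ^ k) ^ m =
      (((if p ^ (n + 1) ∣ m then (p : ℤ) ^ (n + 1) else 0) -
        if p ^ n ∣ m then (p : ℤ) ^ n else 0 : ℤ) : ℂ) := by
  classical
  set N := p ^ (n + 1) with hN
  have hall : ∑ k ∈ Finset.range N, (ζ ^ k) ^ m =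
      if N ∣ m then (N : ℂ) else 0 := by
    rw [Finset.sum_congr rfl fun k _ => show (ζ ^ k) ^ m = (ζ ^ m) ^ k by
      rw [← pow_mul, ← pow_mul, mul_comm]]
    rw [geom_eq (by rw [← pow_mul, mul_comm, pow_mul, hζ.pow_eq_one, one_pow])]
    simp only [hζ.pow_eq_one_iff_dvd]
  have hbad : ∑ k ∈ (Finset.range N).filter (fun k => ¬ N.Coprime k), (ζ ^ k) ^ m =
      if p ^ n ∣ m then ((p ^ n : ℕ) : ℂ) else 0 := by
    have himg : (Finset.range N).filter (fun k => ¬ N.Coprime k) =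
        (Finset.range (p ^ n)).image (p * ·) := by
      ext k
      simp only [hN, Finset.mem_filter, Finset.mem_range, Finset.mem_image,
        Nat.coprime_pow_left_iff (Nat.succ_pos n), hp.coprime_iff_not_dvd, not_not]
      refine ⟨fun ⟨hk, t, ht⟩ => ⟨t, ?_, ht.symm⟩, fun ⟨t, ht, e⟩ => ⟨?_, t, e.symm⟩⟩
      · rw [ht, pow_succ'] at hk
        exact Nat.lt_of_mul_lt_mul_left hk
      · rw [← e, pow_succ']
        exact Nat.mul_lt_mul_of_pos_left ht hp.pos
    rw [himg, Finset.sum_image fun a _ b _ e => mul_left_cancel₀ hp.ne_zero e,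
      Finset.sum_congr rfl fun k _ => show (ζ ^ (p * k)) ^ m = (ζ ^ (p * m)) ^ k by
        rw [← pow_mul, ← pow_mul]; ring_nf]
    rw [geom_eq (by
      rw [← pow_mul, show p * m * p ^ n = p ^ (n + 1) * m by ring, pow_mul, hζ.pow_eq_one,
        one_pow])]
    simp only [hζ.pow_eq_one_iff_dvd, hN, pow_succ' p n, Nat.mul_dvd_mul_iff_left hp.pos]
  have hsplit := Finset.sum_filter_add_sum_filter_not (Finset.range N) (fun k => N.Coprime k)
    (fun k => (ζ ^ k) ^ m)
  rw [hall, hbad] at hsplit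
  rw [units, eq_sub_of_add_eq hsplit]
  push_cast
  split_ifs <;> simp [hN]

theorem aut_ev (hp : p.Prime) (hζ : IsPrimitiveRoot ζ (p ^ (n + 1))) {k : ℕ}
    (hk : k ∈ units (p ^ (n + 1))) (f : Fin (p ^ (n + 1)) → ℤ) :
    autOf ζ k (ev ζ f) = ∑ i, (f i : ℂ) * (ζ ^ k) ^ (i : ℕ) := by
  simp only [ev, map_sum, map_mul, map_intCast, map_pow, autOf_apply hp hζ hk]

theorem aut_conj_ev (hp : p.Prime) (hζ : IsPrimitiveRoot ζ (p ^ (n + 1))) {k : ℕ}
    (hk : k ∈ units (p ^ (n + 1))) (f : Fin (p ^ (n + 1)) → ℤ) :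
    autOf ζ k (conj (ev ζ f)) = conj (autOf ζ k (ev ζ f)) := by
  rw [aut_ev hp hζ hk]
  simp only [ev, map_sum, map_mul, map_intCast, map_pow, conj_zeta hp hζ, autOf_apply hp hζ hk]
  refine Finset.sum_congr rfl fun i _ => ?_
  rw [← pow_mul, ← pow_mul, ← pow_mul, ← pow_mul]
  ring_nf

/-- The average of a product is computed from the coefficients. -/
theorem sum_aut_ev_mul_conj (hp : p.Prime) (hζ : IsPrimitiveRoot ζ (p ^ (n + 1)))
    (f g : Fin (p ^ (n + 1)) → ℤ) :
    ∑ k ∈ units (p ^ (n + 1)), autOf ζ k (ev ζ f * conj (ev ζ g)) =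
      ((∑ i, ∑ j, f i * g j * ((if i = j then (p : ℤ) ^ (n + 1) else 0) -
        if (i : ℕ) % p ^ n = (j : ℕ) % p ^ n then (p : ℤ) ^ n else 0) : ℤ) : ℂ) := by
  classical
  have hN : 0 < p ^ (n + 1) := pow_pos hp.pos _
  have h1 : ∀ k ∈ units (p ^ (n + 1)), autOf ζ k (ev ζ f * conj (ev ζ g)) =
      ∑ i, ∑ j, ((f i : ℂ) * g j) * (ζ ^ k) ^ ((i : ℕ) + (p ^ (n + 1) - 1) * (j : ℕ)) := fun k hk => by
    simp only [map_mul, map_sum, map_intCast, map_pow, ev, conj_zeta hp hζ, autOf_apply hp hζ hk,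
      Finset.sum_mul, Finset.mul_sum]
    rw [Finset.sum_comm]
    exact Finset.sum_congr rfl fun i _ => Finset.sum_congr rfl fun j _ => by
      rw [pow_add (ζ ^ k), ← pow_mul, ← pow_mul, ← pow_mul]
      ring
  rw [Finset.sum_congr rfl h1, Finset.sum_comm, Int.cast_sum]
  refine Finset.sum_congr rfl fun i _ => ?_
  rw [Finset.sum_comm, Int.cast_sum]
  refine Finset.sum_congr rfl fun j _ => ?_
  rw [← Finset.mul_sum, sum_units_pow hp hζ]
  simp only [dvd_iff_mod_eq hN dvd_rfl, dvd_iff_mod_eq hN (pow_dvd_pow p (Nat.le_succ n)),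
    Nat.mod_eq_of_lt i.2, Nat.mod_eq_of_lt j.2, Fin.val_inj]
  push_cast
  ring

theorem avg_intCast (hp : p.Prime) (a : ℤ) : avg ζ (p ^ (n + 1)) (a : ℂ) = a := by
  have h := (card_units_pos hp n).ne'
  simp only [avg, map_intCast, Complex.intCast_re, Finset.sum_const, nsmul_eq_mul]
  rw [← mul_assoc, inv_mul_cancel₀ (Nat.cast_ne_zero.2 h), one_mul]

theorem avg_natCast (hp : p.Prime) (a : ℕ) : avg ζ (p ^ (n + 1)) (a : ℂ) = a := by
  exact_mod_cast avg_intCast (n := n) (ζ := ζ) hp a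

/-- The number of residues congruent to a given one. -/
theorem card_class (hp : p.Prime) (i : Fin (p ^ (n + 1))) :
    (Finset.univ.filter fun j : Fin (p ^ (n + 1)) => (i : ℕ) % p ^ n = (j : ℕ) % p ^ n).card = p := by
  set M := p ^ n with hM
  have hM0 : 0 < M := pow_pos hp.pos _
  have hN : p ^ (n + 1) = M * p := pow_succ p n
  conv_rhs => rw [← Fintype.card_fin p, ← Finset.card_univ]
  refine (Finset.card_bij (fun (t : Fin p) _ => (⟨(i : ℕ) % M + M * t, ?_⟩ : Fin (p ^ (n + 1)))) ?_ ?_ ?_).symm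
  · calc (i : ℕ) % M + M * t < M + M * t := by
          exact Nat.add_lt_add_right (Nat.mod_lt _ hM0) _
      _ = M * (t + 1) := by ring
      _ ≤ M * p := Nat.mul_le_mul_left _ t.2
      _ = _ := hN.symm
  · intro t _
    simp [Nat.add_mul_mod_self_left, ← hM]
  · intro a _ b _ e
    have e' : (i : ℕ) % M + M * a = (i : ℕ) % M + M * b := congrArg Fin.val e
    exact Fin.ext (Nat.eq_of_mul_eq_mul_left hM0 (Nat.add_left_cancel e'))
  · intro j hj
    have hj' := (Finset.mem_filter.1 hj).2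
    refine ⟨⟨(j : ℕ) / M, Nat.div_lt_of_lt_mul (hN ▸ j.2)⟩, Finset.mem_univ _, Fin.ext ?_⟩
    show (i : ℕ) % M + M * ((j : ℕ) / M) = j
    rw [hj', Nat.mod_add_div]

/-- An element with coefficients constant on the classes is zero. -/
theorem ev_eq_zero_of_class (hp : p.Prime) (hζ : IsPrimitiveRoot ζ (p ^ (n + 1)))
    {f : Fin (p ^ (n + 1)) → ℤ}
    (hf : ∀ i j : Fin (p ^ (n + 1)), (i : ℕ) % p ^ n = (j : ℕ) % p ^ n → f i = f j) :
    ev ζ f = 0 := by
  have : NeZero (p ^ (n + 1)) := ⟨pow_ne_zero _ hp.ne_zero⟩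
  have hlt : p ^ n < p ^ (n + 1) := Nat.pow_lt_pow_right hp.one_lt (Nat.lt_succ_self n)
  let s : Fin (p ^ (n + 1)) := ⟨p ^ n, hlt⟩
  have h1 : ev ζ f * ζ ^ p ^ n = ev ζ f := by
    simp only [ev, Finset.sum_mul]
    refine Fintype.sum_equiv (Equiv.addRight s) _ _ fun i => ?_
    have hval : ((i + s : Fin (p ^ (n + 1))) : ℕ) = ((i : ℕ) + p ^ n) % p ^ (n + 1) := Fin.val_add i s
    rw [Equiv.coe_addRight, hf (i + s) i (by
      rw [hval, Nat.mod_mod_of_dvd _ (pow_dvd_pow p (Nat.le_succ n)), Nat.add_mod_right]), hval,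
      ← pow_eq_pow_mod _ hζ.pow_eq_one, pow_add ζ, mul_assoc]
  have h2 : ζ ^ p ^ n ≠ 1 := fun e =>
    absurd (Nat.le_of_dvd (pow_pos hp.pos _) (hζ.pow_eq_one_iff_dvd _ |>.1 e)) (not_le.2 hlt)
  by_contra hne
  exact h2 (mul_left_cancel₀ hne (h1.trans (mul_one _).symm))

/-- The value of a bilinear form. -/
def form {A : Type*} [Fintype A] (S : A → A → ℤ) (v : A → ℤ) : ℤ := ∑ a, ∑ b, S a b * (v a * v b)

/-- An integral positive semidefinite form at elements of `ℤ[ζ]` is zero or has average at least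
its least positive value. -/
theorem avg_form (hp : p.Prime) (hζ : IsPrimitiveRoot ζ (p ^ (n + 1))) {A : Type*} [Fintype A]
    (S : A → A → ℤ) (hpos : ∀ v, 0 ≤ form S v)
    (hker : ∀ v, form S v = 0 → ∀ a, ∑ b, S a b * v b = 0) {μ : ℤ} (hμ : 0 ≤ μ)
    (hmin : ∀ v, form S v ≠ 0 → μ ≤ form S v) (f : A → Fin (p ^ (n + 1)) → ℤ) :
    (∀ a, ∑ b, (S a b : ℂ) * ev ζ (f b) = 0) ∨
      (μ : ℝ) ≤ avg ζ (p ^ (n + 1)) (∑ a, ∑ b, (S a b : ℂ) * (ev ζ (f a) * conj (ev ζ (f b)))) := by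
  classical
  let r : Fin (p ^ (n + 1)) → Fin (p ^ (n + 1)) → Prop := fun i j => (i : ℕ) % p ^ n = (j : ℕ) % p ^ n
  let d : Fin (p ^ (n + 1)) → Fin (p ^ (n + 1)) → A → ℤ := fun i j a => f a i - f a j
  by_cases hz : ∀ i j, r i j → form S (d i j) = 0
  · left
    intro a
    have h1 : ∑ b, (S a b : ℂ) * ev ζ (f b) = ev ζ (fun i => ∑ b, S a b * f b i) := by
      simp only [ev, Finset.mul_sum, Int.cast_sum, Int.cast_mul, Finset.sum_mul]
      rw [Finset.sum_comm]
      exact Finset.sum_congr rfl fun i _ => Finset.sum_congr rfl fun b _ => by ring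
    rw [h1]
    refine ev_eq_zero_of_class hp hζ fun i j hij => ?_
    have := hker _ (hz i j hij) a
    simp only [d, mul_sub, Finset.sum_sub_distrib] at this
    linarith
  right
  push Not at hz
  obtain ⟨i₀, j₀, hr, hne⟩ := hz
  -- twice the sum of the conjugates
  set W := ∑ i, ∑ j, if r i j then form S (d i j) else 0 with hW
  let c : A → A → ℤ := fun a b => ∑ i, ∑ j, f a i * f b j * ((if i = j then (p : ℤ) ^ (n + 1) else 0) -
    if (i : ℕ) % p ^ n = (j : ℕ) % p ^ n then (p : ℤ) ^ n else 0)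
  have hc1 : ∀ a b, 2 * c a b = (p : ℤ) ^ n *
      ∑ i, ∑ j, if r i j then (f a i - f a j) * (f b i - f b j) else 0 := by
    intro a b
    have hcl : ∀ i : Fin (p ^ (n + 1)), ∑ j, (if r i j then (1 : ℤ) else 0) = p := fun i => by
      rw [Finset.sum_boole, card_class hp]
    have hsymm : ∀ (F : Fin (p ^ (n + 1)) → Fin (p ^ (n + 1)) → ℤ),
        ∑ i, ∑ j, (if r i j then F j i else 0) = ∑ i, ∑ j, if r i j then F i j else 0 := fun F => by
      rw [Finset.sum_comm]
      exact Finset.sum_congr rfl fun i _ => Finset.sum_congr rfl fun j _ => by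
        simp only [r, eq_comm (a := (j : ℕ) % p ^ n)]
    have hdiag : ∑ i, ∑ j, (if r i j then f a i * f b i else 0) = (p : ℤ) * ∑ i, f a i * f b i := by
      rw [Finset.mul_sum]
      refine Finset.sum_congr rfl fun i _ => ?_
      rw [← hcl i, Finset.sum_mul]
      exact Finset.sum_congr rfl fun j _ => by split_ifs <;> ring
    have hexp : ∑ i, ∑ j, (if r i j then (f a i - f a j) * (f b i - f b j) else 0) =
        ∑ i, ∑ j, (if r i j then f a i * f b i else 0) + ∑ i, ∑ j, (if r i j then f a j * f b j else 0) -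
          ∑ i, ∑ j, (if r i j then f a i * f b j else 0) -
          ∑ i, ∑ j, (if r i j then f a j * f b i else 0) := by
      simp only [← Finset.sum_add_distrib, ← Finset.sum_sub_distrib]
      exact Finset.sum_congr rfl fun i _ => Finset.sum_congr rfl fun j _ => by split_ifs <;> ring
    have hc2 : c a b = (p : ℤ) ^ (n + 1) * ∑ i, f a i * f b i -
        (p : ℤ) ^ n * ∑ i, ∑ j, (if r i j then f a i * f b j else 0) := by
      rw [Finset.mul_sum, Finset.mul_sum, ← Finset.sum_sub_distrib]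
      refine Finset.sum_congr rfl fun i _ => ?_
      simp only [mul_sub, Finset.sum_sub_distrib, mul_ite, mul_zero, Finset.sum_ite_eq,
        Finset.mem_univ, if_true, Finset.mul_sum]
      congr 1
      · ring
      · exact Finset.sum_congr rfl fun j _ => by simp only [r]; split_ifs <;> ring
    rw [hexp, hsymm (fun i j => f a i * f b i), hsymm (fun i j => f a i * f b j), hdiag, hc2]
    ring
  have hW2 : 2 * ∑ a, ∑ b, S a b * c a b = (p : ℤ) ^ n * W := by
    have hsw : ∀ F : Fin (p ^ (n + 1)) → Fin (p ^ (n + 1)) → A → A → ℤ,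
        ∑ i, ∑ j, ∑ a, ∑ b, F i j a b = ∑ a, ∑ b, ∑ i, ∑ j, F i j a b := fun F => by
      rw [Finset.sum_congr rfl fun i _ => Finset.sum_comm, Finset.sum_comm]
      refine Finset.sum_congr rfl fun a _ => ?_
      rw [Finset.sum_congr rfl fun i _ => Finset.sum_comm, Finset.sum_comm]
    have hW1 : W = ∑ i, ∑ j, ∑ a, ∑ b,
        S a b * if r i j then (f a i - f a j) * (f b i - f b j) else 0 := by
      refine Finset.sum_congr rfl fun i _ => Finset.sum_congr rfl fun j _ => ?_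
      split_ifs with h
      · rfl
      · simp
    rw [hW1, hsw, Finset.mul_sum, Finset.mul_sum]
    refine Finset.sum_congr rfl fun a _ => ?_
    rw [Finset.mul_sum, Finset.mul_sum]
    refine Finset.sum_congr rfl fun b _ => ?_
    simp only [← Finset.mul_sum]
    linear_combination (S a b) * hc1 a b
  have hT : (2 : ℂ) * ∑ k ∈ units (p ^ (n + 1)),
      autOf ζ k (∑ a, ∑ b, (S a b : ℂ) * (ev ζ (f a) * conj (ev ζ (f b)))) =
      (((p : ℤ) ^ n * W : ℤ) : ℂ) := by
    rw [← hW2, Int.cast_mul, Int.cast_ofNat]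
    congr 1
    simp only [map_sum, Int.cast_sum]
    rw [Finset.sum_comm]
    refine Finset.sum_congr rfl fun a _ => ?_
    rw [Finset.sum_comm]
    refine Finset.sum_congr rfl fun b _ => ?_
    rw [Finset.sum_congr rfl fun k _ => by rw [map_mul, map_intCast], ← Finset.mul_sum,
      sum_aut_ev_mul_conj hp hζ, ← Int.cast_mul]
  -- many pairs in the class of `i₀`
  have hlin : ∀ u v : A → ℤ, form S u = 0 → form S v = 0 → form S (fun a => u a + v a) = 0 := by
    intro u v hu hv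
    have h1 : form S (fun a => u a + v a) =
        form S u + ∑ a, u a * ∑ b, S a b * v b + ∑ a, v a * ∑ b, S a b * u b + form S v := by
      simp only [form, Finset.mul_sum, ← Finset.sum_add_distrib]
      exact Finset.sum_congr rfl fun a _ => Finset.sum_congr rfl fun b _ => by ring
    simp [h1, hu, hv, hker u hu, hker v hv]
  have hsub : ∀ i j k, form S (d i k) = 0 → form S (d j k) = 0 → form S (d i j) = 0 := by
    intro i j k h1 h2
    have h3 : form S (fun a => -(d j k a)) = 0 := by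
      rw [← h2]
      simp [form]
    convert hlin _ _ h1 h3 using 2
    funext a
    simp only [d]
    ring
  set cl := Finset.univ.filter (r i₀) with hcl'
  have hclcard : cl.card = p := card_class hp i₀
  set U := cl.filter fun k => form S (d i₀ k) = 0 with hU
  set U' := cl.filter fun k => ¬ form S (d i₀ k) = 0 with hU'
  have hi₀U : i₀ ∈ U := Finset.mem_filter.2 ⟨Finset.mem_filter.2 ⟨Finset.mem_univ _, rfl⟩, by
    simp [form, d]⟩
  have hj₀U : j₀ ∈ U' := Finset.mem_filter.2 ⟨Finset.mem_filter.2 ⟨Finset.mem_univ _, hr⟩, hne⟩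
  have hcard : U.card + U'.card = p := by
    rw [hU, hU', Finset.card_filter_add_card_filter_not, hclcard]
  have hWge : (2 : ℤ) * ((p : ℤ) - 1) * μ ≤ W := by
    have hge : ∀ u ∈ U, ∀ v ∈ U', r u v ∧ r v u ∧ μ ≤ form S (d u v) ∧ μ ≤ form S (d v u) := by
      intro u hu v hv
      obtain ⟨hu1, hu2⟩ := Finset.mem_filter.1 hu
      obtain ⟨hv1, hv2⟩ := Finset.mem_filter.1 hv
      have hu3 : r i₀ u := (Finset.mem_filter.1 hu1).2
      have hv3 : r i₀ v := (Finset.mem_filter.1 hv1).2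
      have hne1 : form S (d u v) ≠ 0 := fun h => hv2 (by
        have h' : form S (d v u) = 0 := by
          rw [← h]; simp only [form, d]
          exact Finset.sum_congr rfl fun a _ => Finset.sum_congr rfl fun b _ => by ring
        exact hsub i₀ v u hu2 h')
      have hne2 : form S (d v u) = form S (d u v) := by
        simp only [form, d]
        exact Finset.sum_congr rfl fun a _ => Finset.sum_congr rfl fun b _ => by ring
      exact ⟨hu3.symm.trans hv3, hv3.symm.trans hu3, hmin _ hne1, hne2 ▸ hmin _ hne1⟩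
    have h0 : ∀ i j, (0 : ℤ) ≤ if r i j then form S (d i j) else 0 := fun i j => by
      split_ifs
      · exact hpos _
      · exact le_rfl
    calc (2 : ℤ) * ((p : ℤ) - 1) * μ ≤ 2 * ((U.card : ℤ) * U'.card) * μ := by
          refine mul_le_mul_of_nonneg_right ?_ hμ
          have h1 : (1 : ℤ) ≤ U.card := by exact_mod_cast Finset.card_pos.2 ⟨_, hi₀U⟩
          have h2 : (1 : ℤ) ≤ U'.card := by exact_mod_cast Finset.card_pos.2 ⟨_, hj₀U⟩
          have h3 : (U.card : ℤ) + U'.card = p := by exact_mod_cast hcard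
          nlinarith [mul_nonneg (sub_nonneg.2 h1) (sub_nonneg.2 h2)]
      _ = ∑ _u ∈ U, ∑ _v ∈ U', μ + ∑ _v ∈ U', ∑ _u ∈ U, μ := by
          simp only [Finset.sum_const, nsmul_eq_mul]; ring
      _ ≤ ∑ u ∈ U, ∑ v ∈ U', (if r u v then form S (d u v) else 0) +
            ∑ v ∈ U', ∑ u ∈ U, (if r v u then form S (d v u) else 0) := by
          refine add_le_add (Finset.sum_le_sum fun u hu => Finset.sum_le_sum fun v hv => ?_)
            (Finset.sum_le_sum fun v hv => Finset.sum_le_sum fun u hu => ?_)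
          · rw [if_pos (hge u hu v hv).1]; exact (hge u hu v hv).2.2.1
          · rw [if_pos (hge u hu v hv).2.1]; exact (hge u hu v hv).2.2.2
      _ ≤ ∑ u ∈ U, ∑ v, (if r u v then form S (d u v) else 0) +
            ∑ v ∈ U', ∑ u, (if r v u then form S (d v u) else 0) :=
          add_le_add (Finset.sum_le_sum fun u _ => Finset.sum_le_univ_sum_of_nonneg fun v => h0 u v)
            (Finset.sum_le_sum fun v _ => Finset.sum_le_univ_sum_of_nonneg fun u => h0 v u)
      _ ≤ W := by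
          rw [← Finset.sum_union (Finset.disjoint_filter_filter_not cl cl _), hW]
          exact Finset.sum_le_univ_sum_of_nonneg fun i => Finset.sum_nonneg fun j _ => h0 i j
  have hre := congrArg Complex.re hT
  rw [Complex.mul_re, Complex.re_ofNat, Complex.im_ofNat, zero_mul, sub_zero, Complex.re_sum,
    Complex.intCast_re] at hre
  have hc : (0 : ℝ) < ((units (p ^ (n + 1))).card : ℝ) := Nat.cast_pos.2 (card_units_pos hp n)
  rw [avg, inv_mul_eq_div, le_div_iff₀ hc]
  have h5 : ((units (p ^ (n + 1))).card : ℝ) = (p : ℝ) ^ n * ((p : ℝ) - 1) := by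
    rw [card_units hp, Nat.cast_mul, Nat.cast_pow, Nat.cast_sub hp.one_le, Nat.cast_one]
  have h6 : (2 : ℝ) * ((p : ℝ) - 1) * μ ≤ (W : ℝ) := by exact_mod_cast hWge
  have h7 := mul_le_mul_of_nonneg_left h6 (pow_nonneg (Nat.cast_nonneg p : (0 : ℝ) ≤ p) n)
  push_cast at hre
  rw [h5]
  nlinarith

/-- A nonzero element has average squared absolute value at least `1`. -/
theorem one_le_avg (hp : p.Prime) (hζ : IsPrimitiveRoot ζ (p ^ (n + 1)))
    (f : Fin (p ^ (n + 1)) → ℤ) (hf : ev ζ f ≠ 0) :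
    1 ≤ avg ζ (p ^ (n + 1)) (ev ζ f * conj (ev ζ f)) := by
  rcases avg_form hp hζ (A := Unit) (fun _ _ => 1) (fun v => by simp [form]; exact mul_self_nonneg _)
    (fun v hv a => by simpa [form] using hv) zero_le_one
    (fun v hv => by
      have : v () * v () ≠ 0 := by simpa [form] using hv
      have h0 := mul_self_nonneg (v ())
      simp only [form, Finset.univ_unique, Finset.sum_singleton, one_mul]
      show (1 : ℤ) ≤ v () * v ()
      omega)
    (fun _ => f) with h | h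
  · exact absurd (by simpa using h ()) hf
  · simpa using h

/-- The squared average is at most the average square. -/
theorem sq_avg_le (hp : p.Prime) (hζ : IsPrimitiveRoot ζ (p ^ (n + 1)))
    (f : Fin (p ^ (n + 1)) → ℤ) :
    avg ζ (p ^ (n + 1)) (ev ζ f) ^ 2 ≤ avg ζ (p ^ (n + 1)) (ev ζ f * conj (ev ζ f)) := by
  have hc : (0 : ℝ) < ((units (p ^ (n + 1))).card : ℝ) := Nat.cast_pos.2 (card_units_pos hp n)
  have h1 : avg ζ (p ^ (n + 1)) (ev ζ f * conj (ev ζ f)) =
      ((units (p ^ (n + 1))).card : ℝ)⁻¹ * ∑ k ∈ units (p ^ (n + 1)), Complex.normSq (autOf ζ k (ev ζ f)) := by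
    unfold avg
    congr 1
    refine Finset.sum_congr rfl fun k hk => ?_
    rw [map_mul, aut_conj_ev hp hζ hk, Complex.mul_conj, Complex.ofReal_re]
  rw [h1, avg, mul_pow, sq ((units (p ^ (n + 1))).card : ℝ)⁻¹, mul_assoc]
  refine mul_le_mul_of_nonneg_left ?_ (inv_nonneg.2 hc.le)
  rw [inv_mul_le_iff₀ hc]
  refine sq_sum_le_card_mul_sum_sq.trans (mul_le_mul_of_nonneg_left ?_ hc.le)
  exact Finset.sum_le_sum fun k _ => by
    rw [Complex.normSq_apply, ← sq, ← sq]; exact le_add_of_nonneg_right (sq_nonneg _)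

/-- Polynomial values have coefficient vectors. -/
theorem exists_ev (hp : p.Prime) (hζ : IsPrimitiveRoot ζ (p ^ (n + 1))) (P : Polynomial ℤ) :
    ∃ f : Fin (p ^ (n + 1)) → ℤ, ev ζ f = Polynomial.aeval ζ P ∧ ∑ i, f i = P.eval 1 := by
  classical
  induction P using Polynomial.induction_on' with
  | add P Q hP hQ =>
    obtain ⟨f, hf, hf'⟩ := hP
    obtain ⟨g, hg, hg'⟩ := hQ
    refine ⟨f + g, ?_, ?_⟩
    · rw [map_add, ← hf, ← hg]
      simp [ev, add_mul, Finset.sum_add_distrib]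
    · simp [Finset.sum_add_distrib, hf', hg']
  | monomial k a =>
    refine ⟨Pi.single ⟨k % p ^ (n + 1), Nat.mod_lt _ (pow_pos hp.pos _)⟩ a, ?_, by simp⟩
    rw [ev, Finset.sum_eq_single ⟨k % p ^ (n + 1), Nat.mod_lt _ (pow_pos hp.pos _)⟩
      (fun j _ hj => by simp [Pi.single_eq_of_ne hj]) (by simp), Pi.single_eq_same,
      Polynomial.aeval_monomial, ← pow_eq_pow_mod _ hζ.pow_eq_one]
    simp

/-- For `p = 2` the average of a real element is an integer with the parity of its residue. -/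
theorem exists_avg_real {n : ℕ} {ζ : ℂ} (hζ : IsPrimitiveRoot ζ (2 ^ (n + 1)))
    (f : Fin (2 ^ (n + 1)) → ℤ) (hreal : conj (ev ζ f) = ev ζ f) :
    ∃ t : ℤ, avg ζ (2 ^ (n + 1)) (ev ζ f) = t ∧ (2 : ℤ) ∣ t - ∑ i, f i := by
  classical
  have hp := Nat.prime_two
  set M := 2 ^ n with hM
  have hN2 : 2 ^ (n + 1) = 2 * M := pow_succ' 2 n
  have hM0 : 0 < M := pow_pos two_pos n
  set c : Fin (2 ^ (n + 1)) → ℕ → ℤ := fun i k => if (i : ℕ) % M = k % M then
    (if (i : ℕ) % (2 ^ (n + 1)) = k % (2 ^ (n + 1)) then 1 else -1) else 0 with hc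
  let τ : ℕ → ℤ := fun k => ∑ i, f i * c i k
  have hτ : ∀ k, ∑ u ∈ units (2 ^ (n + 1)), autOf ζ u (ev ζ f * ζ ^ (((2 ^ (n + 1)) - 1) * k)) = ((M : ℤ) * τ k : ℤ) := by
    intro k
    have h1 : ∀ u ∈ units (2 ^ (n + 1)), autOf ζ u (ev ζ f * ζ ^ (((2 ^ (n + 1)) - 1) * k)) =
        ∑ i, (f i : ℂ) * (ζ ^ u) ^ ((i : ℕ) + ((2 ^ (n + 1)) - 1) * k) := fun u hu => by
      rw [map_mul, map_pow, aut_ev hp hζ hu, autOf_apply hp hζ hu, Finset.sum_mul]
      exact Finset.sum_congr rfl fun i _ => by rw [pow_add (ζ ^ u)]; ring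
    rw [Finset.sum_congr rfl h1, Finset.sum_comm]
    simp only [τ, Finset.mul_sum, Int.cast_sum]
    refine Finset.sum_congr rfl fun i _ => ?_
    rw [← Finset.mul_sum, sum_units_pow hp hζ, ← Int.cast_mul]
    congr 1
    simp only [← hM, dvd_iff_mod_eq (pow_pos two_pos (n + 1) : 0 < (2 ^ (n + 1))) dvd_rfl,
      dvd_iff_mod_eq (pow_pos two_pos (n + 1) : 0 < (2 ^ (n + 1))) (Dvd.intro_left 2 hN2.symm : M ∣ (2 ^ (n + 1))), hc]
    have hNM : (i : ℕ) % (2 ^ (n + 1)) = k % (2 ^ (n + 1)) → (i : ℕ) % M = k % M := fun e => by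
      rw [← Nat.mod_mod_of_dvd (i : ℕ) (Dvd.intro_left 2 hN2.symm : M ∣ (2 ^ (n + 1))), e,
        Nat.mod_mod_of_dvd _ (Dvd.intro_left 2 hN2.symm)]
    have e1 : ((2 : ℕ) : ℤ) ^ (n + 1) = 2 * (M : ℤ) := by rw [hM]; push_cast; ring
    have e2 : ((2 : ℕ) : ℤ) ^ n = (M : ℤ) := by rw [hM]; push_cast; ring
    rw [e1, e2]
    by_cases h2 : (i : ℕ) % (2 ^ (n + 1)) = k % (2 ^ (n + 1))
    · simp [h2, hNM h2]; ring
    · simp only [h2, if_false]
      split_ifs <;> ring
  refine ⟨τ 0, ?_, ?_⟩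
  · have h1 := congrArg Complex.re (hτ 0)
    rw [Complex.re_sum, Complex.intCast_re] at h1
    simp only [mul_zero, pow_zero, mul_one] at h1
    rw [avg, h1, card_units hp, ← hM]
    push_cast
    field_simp
  · -- the values at `k` and at `M - k` are opposite
    have hanti : ∀ k, 0 < k → k < M → τ (M - k) = -τ k := by
      intro k hk hk'
      have h1 : ∀ u ∈ units (2 ^ (n + 1)), autOf ζ u (ev ζ f * ζ ^ (((2 ^ (n + 1)) - 1) * (M - k))) =
          -conj (autOf ζ u (ev ζ f * ζ ^ (((2 ^ (n + 1)) - 1) * k))) := by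
        intro u hu
        simp only [map_mul, map_pow, autOf_apply hp hζ hu, conj_zeta hp hζ]
        rw [← aut_conj_ev hp hζ hu f, hreal, ← mul_neg]
        congr 1
        have hroot : ζ ^ M = -1 := by
          have h2 : (ζ ^ M) ^ 2 = 1 := by rw [← pow_mul, mul_comm, ← hN2, hζ.pow_eq_one]
          rcases sq_eq_one_iff.1 h2 with h | h
          · exact absurd (Nat.le_of_dvd hM0 ((hζ.pow_eq_one_iff_dvd _).1 h)) (by
              show ¬ (2 ^ (n + 1)) ≤ M
              omega)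
          · exact h
        have hodd : Odd u := by
          refine Nat.not_even_iff_odd.1 fun he => ?_
          have h3 := (Finset.mem_filter.1 hu).2
          rw [Nat.coprime_pow_left_iff (Nat.succ_pos n), Nat.coprime_two_left] at h3
          exact Nat.not_even_iff_odd.2 h3 he
        have hinv : ∀ j, (ζ ^ u) ^ (((2 ^ (n + 1)) - 1) * j) * (ζ ^ u) ^ j = 1 := fun j => by
          rw [← pow_add, show ((2 ^ (n + 1)) - 1) * j + j = (2 ^ (n + 1)) * j by
            obtain ⟨N', hN'⟩ : ∃ N', (2 ^ (n + 1)) = N' + 1 := ⟨(2 ^ (n + 1)) - 1, by omega⟩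
            rw [hN']; simp; ring, ← pow_mul, show u * ((2 ^ (n + 1)) * j) = (2 ^ (n + 1)) * (u * j) by ring,
            pow_mul, hζ.pow_eq_one, one_pow]
        have h4 : ((ζ ^ ((2 ^ (n + 1)) - 1)) ^ u) ^ (((2 ^ (n + 1)) - 1) * k) = (ζ ^ u) ^ k := by
          rw [← pow_mul ζ ((2 ^ (n + 1)) - 1), mul_comm ((2 ^ (n + 1)) - 1) u, pow_mul ζ u, ← pow_mul]
          have h5 := hinv (((2 ^ (n + 1)) - 1) * k)
          have h6 := hinv k
          calc (ζ ^ u) ^ (((2 ^ (n + 1)) - 1) * (((2 ^ (n + 1)) - 1) * k))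
              = (ζ ^ u) ^ (((2 ^ (n + 1)) - 1) * (((2 ^ (n + 1)) - 1) * k)) * ((ζ ^ u) ^ (((2 ^ (n + 1)) - 1) * k) * (ζ ^ u) ^ k) := by
                rw [h6, mul_one]
            _ = _ := by rw [← mul_assoc, h5, one_mul]
        rw [h4]
        have h7 : (ζ ^ u) ^ (((2 ^ (n + 1)) - 1) * (M - k)) * (ζ ^ u) ^ (M - k) = 1 := hinv _
        have h8 : (ζ ^ u) ^ k * (ζ ^ u) ^ (M - k) = -1 := by
          rw [← pow_add, Nat.add_sub_cancel' hk'.le, ← pow_mul, mul_comm u, pow_mul, hroot,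
            hodd.neg_one_pow]
        have hne : (ζ ^ u) ^ (M - k) ≠ 0 := pow_ne_zero _ (pow_ne_zero _ (hζ.ne_zero (by omega)))
        exact mul_right_cancel₀ hne (h7.trans (by rw [neg_mul, h8, neg_neg]))
      have h2 := hτ (M - k)
      rw [Finset.sum_congr rfl h1, Finset.sum_neg_distrib, ← map_sum, hτ k, map_intCast,
        ← Int.cast_neg, Int.cast_inj] at h2
      have hM' : (M : ℤ) ≠ 0 := Nat.cast_ne_zero.2 hM0.ne'
      refine (mul_left_cancel₀ hM' ?_)
      rw [mul_neg]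
      exact h2.symm
    have hzero : ∑ k ∈ Finset.Ioo 0 M, τ k = 0 := by
      have h1 : ∑ k ∈ Finset.Ioo 0 M, τ k = ∑ k ∈ Finset.Ioo 0 M, -τ k := by
        refine Finset.sum_nbij' (M - ·) (M - ·) ?_ ?_ ?_ ?_ ?_ <;>
          intro k hk <;> simp only [Finset.mem_coe, Finset.mem_Ioo] at hk ⊢
        · omega
        · omega
        · omega
        · omega
        · rw [hanti k hk.1 hk.2, neg_neg]
      rw [Finset.sum_neg_distrib] at h1
      omega
    have hsum : ∑ k ∈ Finset.range M, τ k = τ 0 := by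
      rw [Finset.range_eq_Ico, ← Finset.Ioo_insert_left hM0, Finset.sum_insert (by simp), hzero,
        add_zero]
    rw [← hsum, Finset.sum_comm, ← Finset.sum_sub_distrib]
    refine Finset.dvd_sum fun i _ => ?_
    rw [Finset.sum_eq_single ((i : ℕ) % M) (fun k hk hne => ?_)
      (fun h => absurd (Finset.mem_range.2 (Nat.mod_lt _ hM0)) h)]
    · simp only [hc, Nat.mod_mod]
      rw [if_pos trivial]
      split_ifs
      · exact ⟨0, by ring⟩
      · exact ⟨-(f i), by ring⟩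
    · simp only [hc]
      rw [if_neg, mul_zero]
      rw [Nat.mod_eq_of_lt (Finset.mem_range.1 hk)]
      exact Ne.symm hne

theorem mulMod_mem_units {N j k : ℕ} (hN : 0 < N) (hj : j ∈ units N) (hk : k ∈ units N) :
    j * k % N ∈ units N := by
  refine Finset.mem_filter.2 ⟨Finset.mem_range.2 (Nat.mod_lt _ hN), ?_⟩
  have h := (Finset.mem_filter.1 hj).2.mul_right (Finset.mem_filter.1 hk).2
  rw [Nat.Coprime, Nat.gcd_comm, ← Nat.gcd_rec]
  exact h

theorem sum_aut_ev (hp : p.Prime) (hζ : IsPrimitiveRoot ζ (p ^ (n + 1)))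
    (f : Fin (p ^ (n + 1)) → ℤ) :
    ∃ T : ℤ, ∑ k ∈ units (p ^ (n + 1)), autOf ζ k (ev ζ f) = (T : ℂ) := by
  refine ⟨∑ i : Fin (p ^ (n + 1)), f i * ((if p ^ (n + 1) ∣ (i : ℕ) then (p : ℤ) ^ (n + 1) else 0) -
    if p ^ n ∣ (i : ℕ) then (p : ℤ) ^ n else 0), ?_⟩
  rw [Finset.sum_congr rfl fun k hk => aut_ev hp hζ hk f, Finset.sum_comm, Int.cast_sum]
  refine Finset.sum_congr rfl fun i _ => ?_
  rw [← Finset.mul_sum, sum_units_pow hp hζ, Int.cast_mul]

/-- A totally positive element has average at least `1`. -/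
theorem one_le_avg_of_pos (hp : p.Prime) (hζ : IsPrimitiveRoot ζ (p ^ (n + 1)))
    (f : Fin (p ^ (n + 1)) → ℤ)
    (hpos : ∀ k ∈ units (p ^ (n + 1)), ∃ r : ℝ, 0 < r ∧ autOf ζ k (ev ζ f) = (r : ℂ)) :
    1 ≤ avg ζ (p ^ (n + 1)) (ev ζ f) := by
  classical
  have hN : 0 < p ^ (n + 1) := pow_pos hp.pos _
  let P : Polynomial ℤ := ∑ i, Polynomial.C (f i) * Polynomial.X ^ (i : ℕ)
  have hP : ∀ k : ℕ, Polynomial.aeval (ζ ^ k) P = ∑ i, (f i : ℂ) * (ζ ^ k) ^ (i : ℕ) := fun k => by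
    simp [P]
  -- the norm
  set π : ℂ := ∏ k ∈ units (p ^ (n + 1)), autOf ζ k (ev ζ f) with hπ
  let Q : Polynomial ℤ := ∏ k ∈ units (p ^ (n + 1)), P.comp (Polynomial.X ^ k)
  obtain ⟨g, hg, -⟩ := exists_ev hp hζ Q
  have hQ : ev ζ g = π := by
    rw [hg, hπ]
    simp only [Q, map_prod]
    refine Finset.prod_congr rfl fun k hk => ?_
    rw [Polynomial.aeval_comp, map_pow, Polynomial.aeval_X, hP, aut_ev hp hζ hk]
  have hfix : ∀ j ∈ units (p ^ (n + 1)), autOf ζ j π = π := by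
    intro j hj
    rw [hπ, map_prod]
    refine Finset.prod_bij (fun k _ => j * k % p ^ (n + 1)) (fun k hk => mulMod_mem_units hN hj hk)
      (fun a ha b hb e => ?_) (fun b hb => ?_) (fun k hk => ?_)
    · have h1 : a ≡ b [MOD p ^ (n + 1)] :=
        Nat.ModEq.cancel_left_of_coprime (Finset.mem_filter.1 hj).2 e
      exact Nat.ModEq.eq_of_lt_of_lt h1 (Finset.mem_range.1 (Finset.mem_filter.1 ha).1)
        (Finset.mem_range.1 (Finset.mem_filter.1 hb).1)
    · have himg : (units (p ^ (n + 1))).image (fun k => j * k % p ^ (n + 1)) = units (p ^ (n + 1)) := by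
        refine Finset.eq_of_subset_of_card_le
          (Finset.image_subset_iff.2 fun k hk => mulMod_mem_units hN hj hk) (le_of_eq ?_)
        rw [Finset.card_image_of_injOn fun a ha c hc e => ?_]
        exact Nat.ModEq.eq_of_lt_of_lt
          (Nat.ModEq.cancel_left_of_coprime (Finset.mem_filter.1 hj).2 e)
          (Finset.mem_range.1 (Finset.mem_filter.1 ha).1) (Finset.mem_range.1 (Finset.mem_filter.1 hc).1)
      rw [← himg] at hb
      obtain ⟨a, ha, e⟩ := Finset.mem_image.1 hb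
      exact ⟨a, ha, e⟩
    · rw [aut_ev hp hζ hk, aut_ev hp hζ (mulMod_mem_units hN hj hk), map_sum,
        ← pow_eq_pow_mod _ hζ.pow_eq_one]
      refine Finset.sum_congr rfl fun i _ => ?_
      simp only [map_mul, map_intCast, map_pow, autOf_apply hp hζ hj, ← pow_mul, mul_assoc]
  obtain ⟨T, hT⟩ := sum_aut_ev hp hζ g
  rw [hQ, Finset.sum_congr rfl hfix, Finset.sum_const, nsmul_eq_mul] at hT
  have hc0 : ((units (p ^ (n + 1))).card : ℂ) ≠ 0 := Nat.cast_ne_zero.2 (card_units_pos hp n).ne'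
  have hrat : π = algebraMap ℚ ℂ ((T : ℚ) / (units (p ^ (n + 1))).card) := by
    rw [map_div₀, map_intCast, map_natCast, eq_div_iff hc0, mul_comm, hT]
  have hint : IsIntegral ℤ π := by
    rw [← hQ, hg]
    exact (Algebra.adjoin_le (S := integralClosure ℤ ℂ) (s := {ζ}) (Set.singleton_subset_iff.2
      (hζ.isIntegral hN))) (Polynomial.aeval_mem_adjoin_singleton ℤ ζ)
  rw [hrat] at hint
  obtain ⟨m, hm⟩ := IsIntegrallyClosed.isIntegral_iff.mp
    ((isIntegral_algebraMap_iff (RingHom.injective (algebraMap ℚ ℂ))).1 hint)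
  choose! r hr0 hr using hpos
  have hprod : ((∏ k ∈ units (p ^ (n + 1)), r k : ℝ) : ℂ) = ((m : ℝ) : ℂ) := by
    rw [Complex.ofReal_prod, ← Finset.prod_congr rfl hr, ← hπ, hrat, ← hm]
    simp
  have hm1 : (1 : ℝ) ≤ ∏ k ∈ units (p ^ (n + 1)), r k := by
    have h0 : (0 : ℝ) < m := by
      rw [← Complex.ofReal_inj.1 hprod]
      exact Finset.prod_pos hr0
    rw [Complex.ofReal_inj.1 hprod]
    exact_mod_cast (show (1 : ℤ) ≤ m from Int.cast_pos.1 h0)
  have h2 := CharAction.card_le_sum_of_one_le_prod (units (p ^ (n + 1))) r hr0 hm1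
  rw [avg, inv_mul_eq_div, le_div_iff₀ (Nat.cast_pos.2 (card_units_pos hp n)), one_mul]
  refine h2.trans (le_of_eq (Finset.sum_congr rfl fun k hk => ?_))
  rw [hr k hk, Complex.ofReal_re]

end CfsgLib.CycloTrace
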